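import Cfsg.Agent.Lib.PGroup.RudvalisType.Fusion.Transfer
import Cfsg.Agent.S2553
import Mathlib.LinearAlgebra.FreeModule.Finite.Matrix
import Mathlib.GroupTheory.SchurZassenhaus
import Mathlib.GroupTheory.Perm.Sign

/-!
# The normaliser of the derived group of `W` induces the whole linear group
-/

set_option autoImplicit false

namespace CfsgLib.PGroup.RudvalisType.Fusion

open Subgroup
open scoped commutatorElement

variable {G : Type*} [Group G] [Finite G] {T : Sylow 2 G} {W D : Subgroup G}

theorem sign_of_fix : ∀ σ : Equiv.Perm (Fin 3), ∀ i, σ i = i → σ ≠ 1 → Equiv.Perm.sign σ = -1 := by decide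

theorem exists_hom_units : ∃ χ : ℤˣ →* C2, χ (-1) ≠ 1 :=
  ⟨MonoidHom.mk' (fun u => if u = 1 then 1 else Multiplicative.ofAdd 1)
    (by decide : ∀ a b : ℤˣ, (if a * b = 1 then (1 : C2) else Multiplicative.ofAdd 1) =
      (if a = 1 then 1 else Multiplicative.ofAdd 1) * (if b = 1 then 1 else Multiplicative.ofAdd 1)), by
    show (if (-1 : ℤˣ) = 1 then (1 : C2) else Multiplicative.ofAdd 1) ≠ 1
    decide⟩

/-- A group of order 8 or 24 has a map onto a group of order two, if it has a subgroup of order eight whose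
normalising elements of order three centralise it. -/
theorem exists_hom_small {X : Type*} [Group X] [Finite X] (P : Subgroup X) (hP : Nat.card P = 8)
    (hX : Nat.card X = 8 ∨ Nat.card X = 24) (hcen : P.Normal → ∀ x : X, orderOf x = 3 → ∀ p ∈ P, Commute x p) :
    ∃ χ : X →* C2, χ ≠ 1 := by
  classical
  haveI : Fact (Nat.Prime 2) := ⟨Nat.prime_two⟩
  haveI : Fact (Nat.Prime 3) := ⟨Nat.prime_three⟩
  by_cases hn : P.Normal
  · have hP2 : IsPGroup 2 P := IsPGroup.of_card (n := 3) hP
    obtain ⟨s, hs⟩ : ∃ s, s ∉ frattini P := by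
      by_contra hc
      push Not at hc
      have h1 := frattini_nongenerating (G := P) (K := ⊥) (by rw [bot_sup_eq]; exact (eq_top_iff' _).2 hc)
      have h2 : Nat.card (⊥ : Subgroup P) = 8 := by rw [h1, card_top, hP]
      rw [card_bot] at h2
      omega
    obtain ⟨ψ, -, hψ⟩ := exists_hom (F := frattini P)
      (fun x => by rw [← sq]; exact CfsgLib.Coprime.pow_mem_frattini hP2 x)
      (fun x y => CfsgLib.Coprime.commutator_le_frattini hP2 (commutator_mem_commutator (mem_top x) (mem_top y))) hs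
    have h9 : ∀ p ∈ P, p ^ 9 = p := fun p hp => by
      have h1 : (⟨p, hp⟩ : P) ^ 8 = 1 := by rw [← hP]; exact pow_card_eq_one'
      have h2 : p ^ 8 = 1 := congrArg Subtype.val h1
      rw [pow_succ, h2, one_mul]
    obtain ⟨π, hπ⟩ : ∃ π : X →* P, ∀ p (hp : p ∈ P), π p = ⟨p, hp⟩ := by
      rcases hX with hX | hX
      · have htop : P = ⊤ := eq_top_of_card_eq _ (by rw [hP, hX])
        exact ⟨MonoidHom.mk' (fun y => ⟨y, htop ▸ mem_top y⟩) fun a b => rfl, fun p hp => rfl⟩
      · obtain ⟨x, hx⟩ := exists_prime_orderOf_dvd_card' (G := X) 3 (by rw [hX]; norm_num)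
        have hcp := hcen hn x hx
        have hco : IsComplement' P (zpowers x) := by
          refine isComplement'_of_coprime (by rw [hP, Nat.card_zpowers, hx, hX]) ?_
          rw [hP, Nat.card_zpowers, hx]
          decide
        have hdec : ∀ y : X, ∃ p ∈ P, ∃ k : ℕ, y = p * x ^ k := fun y => by
          obtain ⟨⟨⟨p, hp⟩, ⟨z, hz⟩⟩, rfl⟩ := hco.2 y
          obtain ⟨k, rfl⟩ := (mem_powers_iff_mem_zpowers (x := x)).2 hz
          exact ⟨p, hp, k, rfl⟩
        have hnine : ∀ p ∈ P, ∀ k : ℕ, (p * x ^ k) ^ 9 = p := fun p hp k => by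
          rw [((hcp p hp).pow_left k).symm.mul_pow, h9 p hp, ← pow_mul,
            show k * 9 = 3 * (3 * k) by ring, pow_mul, ← hx, pow_orderOf_eq_one, one_pow, mul_one]
        refine ⟨MonoidHom.mk' (fun y => ⟨y ^ 9, ?_⟩) fun a b => ?_, fun p hp => ?_⟩
        · obtain ⟨p, hp, k, rfl⟩ := hdec y
          rw [hnine p hp k]; exact hp
        · apply Subtype.ext
          obtain ⟨p, hp, k, rfl⟩ := hdec a
          obtain ⟨r, hr, l, rfl⟩ := hdec b
          show (p * x ^ k * (r * x ^ l)) ^ 9 = (p * x ^ k) ^ 9 * (r * x ^ l) ^ 9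
          rw [hnine p hp k, hnine r hr l, show p * x ^ k * (r * x ^ l) = p * r * (x ^ k * x ^ l) by
            simp only [mul_assoc]; rw [← mul_assoc (x ^ k), ((hcp r hr).pow_left k).eq, mul_assoc],
            ← pow_add, hnine _ (mul_mem hp hr)]
        · exact Subtype.ext (h9 p hp)
    refine ⟨ψ.comp π, fun h => hψ ?_⟩
    have := DFunLike.congr_fun h (s : X)
    rwa [MonoidHom.comp_apply, hπ _ s.2, MonoidHom.one_apply] at this
  · have hne8 : Nat.card X ≠ 8 := fun h8 => hn (by
      rw [eq_top_of_card_eq P (by rw [hP, h8])]; infer_instance)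
    have hX24 : Nat.card X = 24 := hX.resolve_left hne8
    have hf : (24 : ℕ).factorization 2 = 3 := by
      rw [show (24 : ℕ) = 2 ^ 3 * 3 by norm_num, Nat.factorization_mul (by norm_num) (by norm_num),
        Nat.Prime.factorization_pow Nat.prime_two, Nat.Prime.factorization Nat.prime_three]
      simp
    let Q : Sylow 2 X := Sylow.ofCard P (by rw [hP, hX24, hf]; rfl)
    have hQ : (Q : Subgroup X) = P := rfl
    have hcard : Nat.card (Sylow 2 X) = 3 := by
      have h1 := Q.card_dvd_index
      have h2 : P.index = 3 := by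
        have := Subgroup.index_mul_card P
        rw [hP, hX24] at this
        omega
      rw [hQ, h2] at h1
      rcases (Nat.dvd_prime Nat.prime_three).1 h1 with h | h
      · exact absurd (by
          haveI := (Nat.card_eq_one_iff_unique.1 h).1
          exact Q.normal_of_subsingleton) (hQ ▸ hn)
      · exact h
    haveI : Fintype (Sylow 2 X) := Fintype.ofFinite _
    obtain ⟨e⟩ : Nonempty (Sylow 2 X ≃ Fin 3) := by
      have h3 := hcard
      rw [← Nat.card_fin 3] at h3
      exact Finite.card_eq.1 h3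
    obtain ⟨R, hR⟩ : ∃ R : Sylow 2 X, R ≠ Q := by
      haveI : Nontrivial (Sylow 2 X) := Finite.one_lt_card_iff_nontrivial.1 (by rw [hcard]; norm_num)
      exact exists_ne Q
    obtain ⟨p, hp, hpR⟩ : ∃ p ∈ P, p • R ≠ R := by
      by_contra hc
      push Not at hc
      refine hR (Sylow.ext ?_)
      have hle : P ≤ (R : Subgroup X) := by
        have h1 : P ≤ normalizer ((R : Subgroup X) : Set X) := fun p hp => by
          have h := hc p hp
          rwa [Sylow.smul_eq_iff_mem_normalizer] at h
        have h2 : P ≤ (R : Subgroup X) := (Q.2.inf_normalizer_sylow R) ▸ le_inf le_rfl h1 |>.trans inf_le_right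
        exact h2
      exact (Q.3 R.2 hle)
    obtain ⟨σ, hσ⟩ : ∃ σ : X →* Equiv.Perm (Fin 3),
        σ = e.permCongrHom.toMonoidHom.comp (MulAction.toPermHom X (Sylow 2 X)) := ⟨_, rfl⟩
    obtain ⟨χ, hχ⟩ : ∃ χ : ℤˣ →* C2, χ (-1) ≠ 1 := by
      exact exists_hom_units
    refine ⟨χ.comp ((Equiv.Perm.sign).comp σ), fun h => hχ ?_⟩
    have h1 := DFunLike.congr_fun h p
    rw [MonoidHom.comp_apply, MonoidHom.comp_apply, sign_of_fix (σ p) (e Q) ?_ ?_] at h1
    · exact h1
    · rw [hσ]
      show e (p • (e.symm (e Q))) = e Q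
      rw [e.symm_apply_apply, Sylow.smul_eq_iff_mem_normalizer.2 (le_normalizer hp)]
    · intro h1'
      refine hpR (e.injective ?_)
      have := Equiv.congr_fun h1' (e R)
      rw [hσ] at this
      simpa using this

namespace Ctx

variable (h : Ctx T W D)
include h

/-- The action on `D` gives the whole linear group. -/
theorem exists_action (h2 : ∀ H : Subgroup G, H.index ≠ 2) :
    ∃ φ : ↥(normalizer (D : Set G)) →* GL (Fin 3) (ZMod 2), Function.Surjective φ ∧
      ∀ m, φ m = 1 ↔ ∀ d ∈ D, (m : G) * d = d * m := by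
  classical
  haveI : Fact (Nat.Prime 2) := ⟨Nat.prime_two⟩
  obtain ⟨M, hM⟩ : ∃ M, M = normalizer (D : Set G) := ⟨_, rfl⟩
  letI : CommGroup D := { (inferInstance : Group D) with
    mul_comm := fun a b => Subtype.ext (h.central a a.2 b (h.hDW b.2)) }
  letI : Module (ZMod 2) (Additive D) :=
    AddCommGroup.zmodModule (n := 2) fun x => by
      show Additive.toMul x ^ 2 = 1
      exact Subtype.ext (by simpa [pow_two] using h.elem _ (Additive.toMul x).2)
  haveI : Finite (Additive D) := inferInstanceAs (Finite D)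
  have hrank : Module.finrank (ZMod 2) (Additive D) = 3 := by
    have h1 := Module.natCard_eq_pow_finrank (K := ZMod 2) (V := Additive D)
    rw [Nat.card_zmod, show Nat.card (Additive D) = Nat.card D from rfl, h.cardD] at h1
    exact (Nat.pow_right_injective (le_refl 2) (show 2 ^ 3 = 2 ^ _ from h1)).symm
  let L : Additive D ≃ₗ[ZMod 2] (Fin 3 → ZMod 2) :=
    LinearEquiv.ofFinrankEq _ _ (by rw [hrank, Module.finrank_pi, Fintype.card_fin])
  let ext : ↥(normalizer (D : Set G)) →* (Additive D →ₗ[ZMod 2] Additive D) :=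
    { toFun := fun g => AddMonoidHom.toZModLinearMap 2 (MonoidHom.toAdditive (D.normalizerMonoidHom g).toMonoidHom)
      map_one' := LinearMap.ext fun x => by simp
      map_mul' := fun a b => LinearMap.ext fun x => by simp }
  let toM : ↥(normalizer (D : Set G)) →* GL (Fin 3) (ZMod 2) :=
    ((LinearMap.toMatrixAlgEquiv'.toMonoidHom).comp ((L.conjRingEquiv.toMonoidHom).comp ext)).toHomUnits
  have hker : ∀ m, toM m = 1 ↔ ∀ d ∈ D, (m : G) * d = d * m := by
    intro m
    constructor
    · intro hm d hd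
      have h1 : ext m = 1 := L.conjRingEquiv.injective (by
        rw [map_one]
        exact LinearMap.toMatrixAlgEquiv'.injective ((congrArg Units.val hm).trans (map_one _).symm))
      have h2 := LinearMap.congr_fun h1 (Additive.ofMul ⟨d, hd⟩)
      exact mul_inv_eq_iff_eq_mul.1 (congrArg (fun t : Additive D => ((Additive.toMul t : D) : G)) h2)
    · intro hm
      have h1 : ext m = 1 := LinearMap.ext fun x => by
        refine congrArg Additive.ofMul (Subtype.ext ?_ : D.normalizerMonoidHom m (Additive.toMul x) = Additive.toMul x)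
        show (m : G) * _ * (m : G)⁻¹ = _
        rw [hm _ (Additive.toMul x).2, mul_inv_cancel_right]
      refine Units.ext ?_
      show LinearMap.toMatrixAlgEquiv' (L.conjRingEquiv (ext m)) = 1
      rw [h1, map_one, map_one]
  obtain ⟨φ, hφ⟩ : ∃ φ, φ = toM := ⟨_, rfl⟩
  refine ⟨φ, ?_, hφ ▸ hker⟩
  replace hker : ∀ m, φ m = 1 ↔ ∀ d ∈ D, (m : G) * d = d * m := hφ ▸ hker
  clear_value toM
  obtain ⟨X, hX⟩ : ∃ X, X = φ.range := ⟨_, rfl⟩
  refine MonoidHom.range_eq_top.1 (hX ▸ ?_)
  obtain ⟨P, hP⟩ : ∃ P, P = ((T : Subgroup G).subgroupOf (normalizer (D : Set G))).map φ.rangeRestrict := ⟨_, rfl⟩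
  have hP8 : Nat.card P = 8 := by
    obtain ⟨θ, hθ⟩ : ∃ θ, θ = φ.rangeRestrict.comp (inclusion h.normD) := ⟨_, rfl⟩
    have hPr : P = θ.range := by
      rw [hP, hθ, MonoidHom.range_comp, inclusion_range]
    have hkerθ : θ.ker = W.subgroupOf (T : Subgroup G) := by
      ext t
      rw [MonoidHom.mem_ker, hθ, MonoidHom.comp_apply, Subtype.ext_iff]
      show φ _ = 1 ↔ _
      rw [hker]
      exact ⟨fun hc => h.cent t t.2 hc, fun hw d hd => (h.central d hd _ hw).symm⟩
    have h1 := Subgroup.index_mul_card θ.ker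
    rw [index_ker, ← hPr, hkerθ, Nat.card_congr (subgroupOfEquivOfLe h.hWT).toEquiv, h.cardW, h.cardT] at h1
    omega
  have h168 := Cfsg.Agent.S2553.gl_three_two
  haveI := h168.1
  have hmul := Subgroup.index_mul_card φ.range
  have h8 : 8 ∣ Nat.card φ.range := hP8 ▸ Subgroup.card_subgroup_dvd_card P
  obtain ⟨k, hk⟩ := h8
  rw [h168.2, hk] at hmul
  have hkd : k ∣ 21 := ⟨φ.range.index, by linarith⟩
  have hk' : k ∈ Nat.divisors 21 := Nat.mem_divisors.2 ⟨hkd, by norm_num⟩
  rw [show Nat.divisors 21 = {1, 3, 7, 21} by decide] at hk'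
  simp only [Finset.mem_insert, Finset.mem_singleton] at hk'
  rcases hk' with rfl | rfl | rfl | rfl
  rotate_left 2
  · -- index three
    exfalso
    have hi : φ.range.index = 3 := by omega
    have hbot : φ.range.normalCore = ⊥ := by
      refine (IsSimpleGroup.eq_bot_or_eq_top_of_normal _ inferInstance).resolve_right fun e => ?_
      have := normalCore_le φ.range
      rw [e, top_le_iff] at this
      rw [this, index_top] at hi
      omega
    rw [normalCore_eq_ker] at hbot
    have h6 := Subgroup.card_le_card_group (MulAction.toPermHom (GL (Fin 3) (ZMod 2)) (GL (Fin 3) (ZMod 2) ⧸ φ.range)).range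
    rw [← Nat.card_congr (MonoidHom.ofInjective ((MonoidHom.ker_eq_bot_iff _).1 hbot)).toEquiv, h168.2,
      Nat.card_perm, show Nat.card (GL (Fin 3) (ZMod 2) ⧸ φ.range) = 3 from hi] at h6
    norm_num [Nat.factorial] at h6
  · exact eq_top_of_card_eq _ (by rw [hX, hk, h168.2])
  all_goals
    exfalso
    obtain ⟨χ, hχ⟩ := exists_hom_small P hP8 (by rw [hk]; norm_num) (fun hPn x hx p hp => by
      haveI := hPn
      obtain ⟨L, hL⟩ : ∃ L, L = P.comap φ.rangeRestrict := ⟨_, rfl⟩
      haveI : L.Normal := hL ▸ hPn.comap _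
      have hTL : (T.subtype h.normD : Subgroup ↥(normalizer (D : Set G))) ≤ L := by
        rw [hL, hP]; exact le_comap_map _ _
      have hsup := Sylow.normalizer_sup_eq_top ((T.subtype h.normD).subtype hTL)
      rw [Sylow.coe_subtype, map_subgroupOf_eq_of_le hTL] at hsup
      obtain ⟨m, rfl⟩ := φ.rangeRestrict_surjective x
      obtain ⟨n, hn, l, hl, rfl⟩ := (by
        have h3 : m ∈ normalizer ((T.subtype h.normD : Subgroup ↥(normalizer (D : Set G))) : Set _) ⊔ L :=
          hsup ▸ mem_top m
        exact mem_sup_of_normal_right.1 h3)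
      obtain ⟨t, ht, htl⟩ : ∃ t ∈ (T : Subgroup G).subgroupOf (normalizer (D : Set G)),
          φ.rangeRestrict t = φ.rangeRestrict l := by
        rw [hL, hP] at hl; exact hl
      obtain ⟨u, hu⟩ : ∃ u, u = n * t := ⟨_, rfl⟩
      have hun : (u : G) ∈ normalizer ((T : Subgroup G) : Set G) := by
        have h4 : u ∈ normalizer ((T.subtype h.normD : Subgroup ↥(normalizer (D : Set G))) : Set _) :=
          hu ▸ mul_mem hn (le_normalizer (show t ∈ (T.subtype h.normD : Subgroup ↥(normalizer (D : Set G))) from ht))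
        refine mem_normalizer_iff.2 fun g => ⟨fun hg => ?_, fun hg => ?_⟩
        · exact (mem_normalizer_iff.1 h4 ⟨g, h.normD hg⟩).1 hg
        · have hgM : g ∈ normalizer (D : Set G) := by
            have := mul_mem (mul_mem (inv_mem u.2) (h.normD hg)) u.2
            simpa [mul_assoc] using this
          exact (mem_normalizer_iff.1 h4 ⟨g, hgM⟩).2 hg
      have hxu : φ.rangeRestrict u = φ.rangeRestrict (n * l) := by rw [hu, map_mul, map_mul, htl]
      rw [← hxu] at hx ⊢
      obtain ⟨i, m', hm', hu'⟩ := Nat.exists_eq_pow_mul_and_not_dvd (orderOf_pos u).ne' 2 (by norm_num)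
      have hodd : Odd (orderOf ((u : G) ^ 2 ^ i)) := by
        rw [← SubmonoidClass.coe_pow, Subgroup.orderOf_coe, orderOf_pow' u (by positivity), hu',
          Nat.gcd_eq_right (Dvd.intro m' rfl), Nat.mul_div_cancel_left _ (by positivity)]
        exact Nat.odd_iff.2 (Nat.two_dvd_ne_zero.1 hm')
      have hc := h.autT _ (pow_mem hun _) hodd
      obtain ⟨s, hs, rfl⟩ := (hP ▸ hp : p ∈ ((T : Subgroup G).subgroupOf (normalizer (D : Set G))).map φ.rangeRestrict)
      have hcx : Commute (φ.rangeRestrict u ^ 2 ^ i) (φ.rangeRestrict s) := by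
        rw [← map_pow]
        exact (show Commute (u ^ 2 ^ i) s from Subtype.ext (hc _ hs)).map φ.rangeRestrict
      have hcop : (2 ^ i).Coprime (orderOf (φ.rangeRestrict u)) := by
        rw [hx]; exact Nat.Coprime.pow_left i (by decide)
      obtain ⟨j, hj⟩ := exists_pow_eq_self_of_coprime hcop
      rw [← hj]
      exact hcx.pow_left j)
    have hν := h.hom_trivial h2 (χ.comp φ.rangeRestrict) fun w hw hwW => by
      rw [MonoidHom.comp_apply, show φ.rangeRestrict ⟨w, hw⟩ = 1 from
        Subtype.ext ((hker _).2 fun d hd => (h.central d hd _ hwW).symm), map_one]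
    refine hχ (MonoidHom.ext fun y => ?_)
    obtain ⟨m, rfl⟩ := φ.rangeRestrict_surjective y
    exact DFunLike.congr_fun hν m

end Ctx

end CfsgLib.PGroup.RudvalisType.Fusion
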