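import Cfsg.Agent.Lib.Coprime.Action
import Cfsg.Agent.Lib.Coprime.PGroupFrattini
import Cfsg.Agent.Lib.Char.TransLinear.AutCard
import Cfsg.Agent.Lib.PGroup.RudvalisType.Fusion.Quotient

/-!
# Odd automorphism groups of a module with one fixed point
-/

set_option autoImplicit false

namespace CfsgLib.PGroup.RudvalisType.Fusion

open Subgroup
open scoped commutatorElement

variable {V : Type*} [CommGroup V] [Finite V] {P S : Subgroup (MulAut V)}

/-- An odd group of automorphisms normalised by a two-group with one fixed point and fixing it is trivial. -/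
theorem eq_bot_of_fix (hexp : ∀ v : V, v * v = 1) (hodd : Odd (Nat.card P)) (hS : IsPGroup 2 S)
    (hnorm : S ≤ normalizer (P : Set (MulAut V))) {σ : V} (hσ : σ ≠ 1)
    (huniq : ∀ v : V, v ≠ 1 → (∀ s ∈ S, s v = v) → v = σ) (hfix : ∀ k ∈ P, k σ = σ) : P = ⊥ := by
  classical
  haveI : Fact (Nat.Prime 2) := ⟨Nat.prime_two⟩
  haveI := Fintype.ofFinite P
  let E : V →* V := MonoidHom.mk' (fun v => ∏ k : P, (k : MulAut V) v) fun a b => by
    simp only [map_mul, Finset.prod_mul_distrib]
  have hpow : ∀ v : V, v ^ Nat.card P = v := fun v => by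
    obtain ⟨m, hm⟩ := hodd
    rw [hm, pow_succ, pow_mul, sq, hexp, one_pow, one_mul]
  have hS' : ∀ s ∈ S, ∀ v, E (s v) = s (E v) := by
    intro s hs v
    show ∏ k : P, (k : MulAut V) (s v) = s (∏ k : P, (k : MulAut V) v)
    rw [map_prod]
    have hm := hnorm hs
    refine Fintype.prod_equiv
      { toFun := fun k : P => ⟨s⁻¹ * k * s, by simpa using (mem_normalizer_iff.1 (inv_mem hm) k).1 k.2⟩
        invFun := fun k : P => ⟨s * k * s⁻¹, (mem_normalizer_iff.1 hm k).1 k.2⟩
        left_inv := fun k => Subtype.ext (by simp [mul_assoc])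
        right_inv := fun k => Subtype.ext (by simp [mul_assoc]) } _ _ fun k => ?_
    show (k : MulAut V) (s v) = s ((s⁻¹ * k * s : MulAut V) v)
    rw [← MulAut.mul_apply, ← MulAut.mul_apply]
    congr 1
    rw [mul_assoc s⁻¹, mul_inv_cancel_left]
  have hker : E.ker = ⊥ := by
    by_contra hne
    letI : MulAction S E.ker :=
      { smul := fun s v => ⟨(s : MulAut V) v, by rw [MonoidHom.mem_ker, hS' s s.2, v.2, map_one]⟩
        one_smul := fun v => Subtype.ext rfl
        mul_smul := fun s t v => Subtype.ext rfl }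
    have hcard : 2 ∣ Nat.card E.ker := by
      have h2 : IsPGroup 2 E.ker := fun v => ⟨1, Subtype.ext (by rw [pow_one, sq]; exact hexp v)⟩
      obtain ⟨n, hn⟩ := IsPGroup.iff_card.1 h2
      rcases Nat.eq_zero_or_pos n with rfl | hn0
      · exact absurd (eq_bot_of_card_eq _ (by rw [hn, pow_zero])) hne
      · rw [hn]; exact dvd_pow_self 2 hn0.ne'
    obtain ⟨v, hv, hv1⟩ := hS.exists_fixed_point_of_prime_dvd_card_of_fixed_point E.ker hcard
      (a := 1) (fun s => Subtype.ext (map_one _))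
    have hvσ : (v : V) = σ := huniq v (fun h => hv1 (Subtype.ext h.symm))
      fun s hs => congrArg Subtype.val (hv ⟨s, hs⟩)
    have h1 : E σ = σ := by
      show ∏ k : P, (k : MulAut V) σ = σ
      rw [Finset.prod_congr rfl fun (k : P) _ => hfix k k.2, Finset.prod_const, Finset.card_univ,
        ← Nat.card_eq_fintype_card, hpow]
    rw [← hvσ, v.2] at h1
    exact hσ (by rw [← hvσ, ← h1])
  have hsurj : Function.Surjective E := Finite.injective_iff_surjective.1 ((MonoidHom.ker_eq_bot_iff E).1 hker)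
  refine (eq_bot_iff_forall _).2 fun k hk => MulEquiv.ext fun v => ?_
  obtain ⟨w, rfl⟩ := hsurj v
  show k (∏ l : P, (l : MulAut V) w) = ∏ l : P, (l : MulAut V) w
  rw [map_prod]
  exact Fintype.prod_equiv (Equiv.mulLeft (⟨k, hk⟩ : P)) _ _ fun l => rfl

/-- Centralised by the two-group, it is trivial. -/
theorem eq_bot_of_comm (hexp : ∀ v : V, v * v = 1) (hodd : Odd (Nat.card P)) (hS : IsPGroup 2 S)
    {σ : V} (hσ : σ ≠ 1) (hσS : ∀ s ∈ S, s σ = σ) (huniq : ∀ v : V, v ≠ 1 → (∀ s ∈ S, s v = v) → v = σ)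
    (hcomm : ∀ s ∈ S, ∀ k ∈ P, s * k = k * s) : P = ⊥ := by
  refine eq_bot_of_fix hexp hodd hS (fun s hs => mem_normalizer_iff.2 fun k => ⟨fun hk => ?_, fun hk => ?_⟩) hσ huniq
    fun k hk => huniq _ (fun h => hσ (k.injective (by rw [h, map_one]))) fun s hs => ?_
  · rwa [hcomm s hs k hk, mul_inv_cancel_right]
  · have h1 := hcomm s hs _ hk
    rw [inv_mul_cancel_right] at h1
    rwa [mul_left_cancel h1] at hk
  · rw [← MulAut.mul_apply, hcomm s hs k hk, MulAut.mul_apply, hσS s hs]

/-- A `p`-group with `p` prime to 255 on a module of order 256 fixes a point. -/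
theorem eq_bot_of_coprime {p : ℕ} [Fact p.Prime] (hp : p ≠ 2) (hP : IsPGroup p P) (hV : Nat.card V = 2 ^ 8)
    (h255 : ¬ p ∣ 255) (hexp : ∀ v : V, v * v = 1) (hS : IsPGroup 2 S)
    (hnorm : S ≤ normalizer (P : Set (MulAut V))) {σ : V} (hσ : σ ≠ 1)
    (huniq : ∀ v : V, v ≠ 1 → (∀ s ∈ S, s v = v) → v = σ) : P = ⊥ := by
  classical
  haveI : Fact (Nat.Prime 2) := ⟨Nat.prime_two⟩
  have hodd : Odd (Nat.card P) := by
    obtain ⟨n, hn⟩ := IsPGroup.iff_card.1 hP
    rw [hn]
    exact ((Nat.Prime.odd_of_ne_two Fact.out hp)).pow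
  obtain ⟨X, hX⟩ : ∃ X : Subgroup V, ∀ v, v ∈ X ↔ ∀ k ∈ P, k v = v :=
    ⟨{ carrier := {v | ∀ k ∈ P, k v = v}
       one_mem' := fun k _ => map_one k
       mul_mem' := fun ha hb k hk => by rw [map_mul, ha k hk, hb k hk]
       inv_mem' := fun ha k hk => by rw [map_inv, ha k hk] }, fun v => Iff.rfl⟩
  have hne : X ≠ ⊥ := fun h => by
    have h1 := hP.card_modEq_card_fixedPoints V
    have h2 : Nat.card (MulAction.fixedPoints P V) = 1 := by
      rw [Nat.card_eq_one_iff_unique]
      refine ⟨⟨fun a b => Subtype.ext ?_⟩, ⟨⟨1, fun k => map_one (k : MulAut V)⟩⟩⟩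
      have ha : (a : V) ∈ X := (hX _).2 fun k hk => a.2 ⟨k, hk⟩
      have hb : (b : V) ∈ X := (hX _).2 fun k hk => b.2 ⟨k, hk⟩
      rw [h, mem_bot] at ha hb
      rw [ha, hb]
    rw [hV, h2] at h1
    exact h255 ((Nat.modEq_iff_dvd' (by norm_num)).1 h1.symm)
  letI : MulAction S X :=
    { smul := fun s v => ⟨(s : MulAut V) v, (hX _).2 fun k hk => by
        have h1 : (s : MulAut V)⁻¹ * k * s ∈ P := by
          simpa using (mem_normalizer_iff.1 (inv_mem (hnorm s.2)) k).1 hk
        have h2 := (hX _).1 v.2 _ h1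
        rw [← MulAut.mul_apply]
        conv_rhs => rw [← h2, ← MulAut.mul_apply]
        congr 1
        group⟩
      one_smul := fun v => Subtype.ext rfl
      mul_smul := fun s t v => Subtype.ext rfl }
  have hcard : 2 ∣ Nat.card X := by
    have h2 : IsPGroup 2 X := fun v => ⟨1, Subtype.ext (by rw [pow_one, sq]; exact hexp v)⟩
    obtain ⟨n, hn⟩ := IsPGroup.iff_card.1 h2
    rcases Nat.eq_zero_or_pos n with rfl | hn0
    · exact absurd (eq_bot_of_card_eq _ (by rw [hn, pow_zero])) hne
    · rw [hn]; exact dvd_pow_self 2 hn0.ne'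
  obtain ⟨v, hv, hv1⟩ := hS.exists_fixed_point_of_prime_dvd_card_of_fixed_point X hcard
    (a := 1) (fun s => Subtype.ext (map_one _))
  have hvσ : (v : V) = σ := huniq v (fun h => hv1 (Subtype.ext h.symm)) fun s hs => congrArg Subtype.val (hv ⟨s, hs⟩)
  exact eq_bot_of_fix hexp hodd hS hnorm hσ huniq fun k hk => by rw [← hvσ]; exact (hX _).1 v.2 k hk

theorem arith_seven : ∀ p ∈ [3, 5, 17], ∀ k < 7, p ^ k ∣ CfsgLib.Char.glCard 8 2 → ¬ 7 ∣ CfsgLib.Char.glCard k p := by
  decide +kernel

/-- The automorphism group of the Frattini quotient of a small group of automorphisms has order prime to seven. -/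
theorem seven_not_dvd {p : ℕ} [hp : Fact p.Prime] (hp255 : p ∣ 255) (hP : IsPGroup p P) (hV : Nat.card V = 2 ^ 8)
    (hexp : ∀ v : V, v * v = 1) : ¬ 7 ∣ Nat.card (MulAut (P ⧸ frattini P)) := by
  classical
  haveI : Fact (Nat.Prime 2) := ⟨Nat.prime_two⟩
  obtain ⟨n, hn⟩ := IsPGroup.iff_card.1 hP
  obtain ⟨k, hk⟩ := IsPGroup.iff_card.1 (hP.to_quotient (frattini P))
  letI : CommGroup (P ⧸ frattini P) :=
    { (inferInstance : Group (P ⧸ frattini P)) with
      mul_comm := fun a b => by
        induction a using QuotientGroup.induction_on with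
        | _ a =>
          induction b using QuotientGroup.induction_on with
          | _ b =>
            show (QuotientGroup.mk (a * b) : P ⧸ frattini P) = QuotientGroup.mk (b * a)
            refine QuotientGroup.eq.2 ?_
            rw [show (a * b)⁻¹ * (b * a) = ⁅b⁻¹, a⁻¹⁆ by simp [commutatorElement_def, mul_assoc]]
            exact CfsgLib.Coprime.commutator_le_frattini hP (commutator_mem_commutator (mem_top _) (mem_top _)) }
  have hexpQ : ∀ x : P ⧸ frattini P, x ^ p = 1 := fun x => by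
    induction x using QuotientGroup.induction_on with
    | _ a => rw [← QuotientGroup.mk_pow, QuotientGroup.eq_one_iff]; exact CfsgLib.Coprime.pow_mem_frattini hP a
  rw [CfsgLib.Char.card_mulAut_of_exponent_prime hexpQ hk]
  have hGL : p ^ k ∣ CfsgLib.Char.glCard 8 2 := by
    rw [← CfsgLib.Char.card_mulAut_of_exponent_prime (fun v : V => by rw [sq]; exact hexp v) hV, ← hk]
    exact (Subgroup.card_quotient_dvd_card _).trans (Subgroup.card_subgroup_dvd_card P)
  have hp3 : p ∈ [3, 5, 17] := by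
    have h255 : p ∈ Nat.divisors 255 := Nat.mem_divisors.2 ⟨hp255, by norm_num⟩
    rw [show Nat.divisors 255 = {1, 3, 5, 15, 17, 51, 85, 255} by decide +kernel] at h255
    have hpp := hp.out
    simp only [Finset.mem_insert, Finset.mem_singleton] at h255
    rcases h255 with rfl | rfl | rfl | rfl | rfl | rfl | rfl | rfl <;> first | decide | norm_num at hpp
  refine arith_seven p hp3 k ?_ hGL
  by_contra hk7
  have h7 : p ^ 7 ∣ CfsgLib.Char.glCard 8 2 := (Nat.pow_dvd_pow p (by omega)).trans hGL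
  have : ∀ q ∈ [3, 5, 17], ¬ q ^ 7 ∣ CfsgLib.Char.glCard 8 2 := by decide +kernel
  exact this p hp3 h7

end CfsgLib.PGroup.RudvalisType.Fusion
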