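import Mathlib.GroupTheory.Coset.Card
import Mathlib.GroupTheory.GroupAction.Basic
import Mathlib.Algebra.BigOperators.Group.Finset.Basic
import Mathlib.Data.ZMod.Basic
import Mathlib.Tactic.Group

/-!
# The transfer into a group of order two, orbit by orbit
-/

set_option autoImplicit false

namespace CfsgLib.PGroup.RudvalisType.Fusion

open Subgroup

variable {G : Type*} [Group G] [Finite G] {T : Subgroup G} (μ : T →* Multiplicative (ZMod 2))

/-- The value of an element at a coset. -/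
noncomputable def cf (x : G) (q : G ⧸ T) : Multiplicative (ZMod 2) :=
  μ ⟨(x • q).out⁻¹ * (x * q.out), by
    rw [← QuotientGroup.eq, QuotientGroup.out_eq']
    conv_lhs => rw [← q.out_eq', MulAction.Quotient.smul_mk, smul_eq_mul]⟩

theorem cf_mul (x y : G) (q : G ⧸ T) : cf μ (x * y) q = cf μ x (y • q) * cf μ y q := by
  unfold cf
  rw [← map_mul]
  congr 1
  apply Subtype.ext
  simp only [Subgroup.coe_mul, mul_smul]
  group

/-- The product of the values on a set of cosets. -/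
noncomputable def F (S : Finset (G ⧸ T)) (x : G) : Multiplicative (ZMod 2) := ∏ q ∈ S, cf μ x q

theorem prod_shift {S : Finset (G ⧸ T)} {y : G} (hS : ∀ q, y • q ∈ S ↔ q ∈ S) (f : G ⧸ T → Multiplicative (ZMod 2)) :
    ∏ q ∈ S, f (y • q) = ∏ q ∈ S, f q :=
  Finset.prod_equiv (MulAction.toPerm y) (fun q => (hS q).symm) fun _ _ => rfl

theorem F_mul {S : Finset (G ⧸ T)} (x : G) {y : G} (hS : ∀ q, y • q ∈ S ↔ q ∈ S) :
    F μ S (x * y) = F μ S x * F μ S y := by
  simp only [F, cf_mul, Finset.prod_mul_distrib, prod_shift hS (cf μ x)]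

/-- The orbit of a subgroup as a finite set. -/
noncomputable def orb (U : Subgroup G) (q : G ⧸ T) : Finset (G ⧸ T) := (Set.toFinite (MulAction.orbit U q)).toFinset

omit μ in
theorem mem_orb {U : Subgroup G} {q p : G ⧸ T} : p ∈ orb U q ↔ ∃ u ∈ U, u • q = p := by
  rw [orb, Set.Finite.mem_toFinset, MulAction.mem_orbit_iff]
  exact ⟨fun ⟨u, h⟩ => ⟨u, u.2, h⟩, fun ⟨u, hu, h⟩ => ⟨⟨u, hu⟩, h⟩⟩

omit μ in
theorem orb_smul {U : Subgroup G} {u : G} (hu : u ∈ U) (q p : G ⧸ T) : u • p ∈ orb U q ↔ p ∈ orb U q := by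
  simp only [mem_orb]
  constructor
  · rintro ⟨v, hv, h⟩
    exact ⟨u⁻¹ * v, mul_mem (inv_mem hu) hv, by rw [mul_smul, h, inv_smul_smul]⟩
  · rintro ⟨v, hv, rfl⟩
    exact ⟨u * v, mul_mem hu hv, mul_smul u v q⟩

omit μ in
theorem self_mem_orb (U : Subgroup G) (q : G ⧸ T) : q ∈ orb U q := mem_orb.2 ⟨1, U.one_mem, one_smul _ q⟩

theorem F_mul' {U : Subgroup G} {y : G} (hy : y ∈ U) (q : G ⧸ T) (x : G) :
    F μ (orb U q) (x * y) = F μ (orb U q) x * F μ (orb U q) y :=
  F_mul μ x fun p => orb_smul hy q p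

theorem F_one (S : Finset (G ⧸ T)) : F μ S 1 = 1 := by
  have h := F_mul μ (S := S) 1 (y := 1) fun q => by rw [one_smul]
  rwa [mul_one, left_eq_mul] at h

/-- The step to a subgroup of index two containing the stabiliser. -/
theorem step {U U₁ : Subgroup G} (hle : U₁ ≤ U) (htwo : ∀ s ∈ U, s ∉ U₁ → ∀ u ∈ U, u ∉ U₁ → s⁻¹ * u ∈ U₁)
    {q : G ⧸ T} (hstab : ∀ u ∈ U, u • q = q → u ∈ U₁) {s : G} (hs : s ∈ U) (hs' : s ∉ U₁) {x : G} (hx : x ∈ U) :
    (x ∉ U₁ → x * x ∈ U₁ ∧ F μ (orb U q) x = F μ (orb U₁ q) (x * x)) ∧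
    (x ∈ U₁ → s⁻¹ * x * s ∈ U₁ ∧ F μ (orb U q) x = F μ (orb U₁ q) (x * (s⁻¹ * x * s))) := by
  classical
  have hsplit : ∀ r ∈ U, r ∉ U₁ → ∀ g : G,
      F μ (orb U q) g = F μ (orb U₁ q) g * ∏ p ∈ orb U₁ q, cf μ g (r • p) := by
    intro r hr hr' g
    have hU : orb U q = orb U₁ q ∪ (orb U₁ q).image (r • ·) := by
      ext p
      rw [Finset.mem_union, Finset.mem_image]
      constructor
      · intro h
        obtain ⟨u, hu, rfl⟩ := mem_orb.1 h
        by_cases hu1 : u ∈ U₁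
        · exact Or.inl (mem_orb.2 ⟨u, hu1, rfl⟩)
        · exact Or.inr ⟨(r⁻¹ * u) • q, mem_orb.2 ⟨_, htwo r hr hr' u hu hu1, rfl⟩,
            by rw [mul_smul, smul_inv_smul]⟩
      · rintro (h | ⟨a, ha, rfl⟩)
        · obtain ⟨u, hu, rfl⟩ := mem_orb.1 h
          exact mem_orb.2 ⟨u, hle hu, rfl⟩
        · obtain ⟨u, hu, rfl⟩ := mem_orb.1 ha
          exact mem_orb.2 ⟨r * u, mul_mem hr (hle hu), mul_smul r u q⟩
    have hdisj : Disjoint (orb U₁ q) ((orb U₁ q).image (r • ·)) := by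
      rw [Finset.disjoint_left]
      rintro p hp hp'
      obtain ⟨a, ha, rfl⟩ := Finset.mem_image.1 hp'
      obtain ⟨u, hu, rfl⟩ := mem_orb.1 ha
      obtain ⟨v, hv, e⟩ := mem_orb.1 hp
      have h1 : (v⁻¹ * r * u) • q = q := by rw [mul_smul, mul_smul, ← e, inv_smul_smul]
      have h2 := hstab _ (mul_mem (mul_mem (inv_mem (hle hv)) hr) (hle hu)) h1
      exact hr' (by simpa [mul_assoc] using mul_mem (mul_mem hv h2) (inv_mem hu))
    show ∏ p ∈ orb U q, cf μ g p = _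
    rw [hU, Finset.prod_union hdisj, Finset.prod_image fun a _ b _ h => (MulAction.injective r) h]
    rfl
  constructor
  · intro hx'
    have hxx : x * x ∈ U₁ := by
      by_contra h
      have := htwo x hx hx' _ (mul_mem hx hx) h
      rw [inv_mul_cancel_left] at this
      exact hx' this
    refine ⟨hxx, ?_⟩
    rw [hsplit x hx hx' x]
    simp only [F, cf_mul, Finset.prod_mul_distrib]
    exact mul_comm _ _
  · intro hx'
    have hy : s⁻¹ * x * s ∈ U₁ := by
      rw [mul_assoc]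
      exact htwo s hs hs' _ (mul_mem hx hs) fun h => hs' (by simpa using mul_mem (inv_mem hx') h)
    refine ⟨hy, ?_⟩
    rw [hsplit s hs hs' x, F_mul' μ hy q x]
    congr 1
    have h1 : ∀ p, cf μ x (s • p) * cf μ s p = cf μ s ((s⁻¹ * x * s) • p) * cf μ (s⁻¹ * x * s) p := fun p => by
      rw [← cf_mul, ← cf_mul]
      congr 1
      group
    have h2 := Finset.prod_congr (s₁ := orb U₁ q) rfl fun p _ => h1 p
    rw [Finset.prod_mul_distrib, Finset.prod_mul_distrib,
      prod_shift (fun p => orb_smul hy q p) (cf μ s), mul_comm (∏ p ∈ orb U₁ q, cf μ s p)] at h2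
    exact mul_right_cancel h2

/-- A subgroup fixing every orbit product fixes the product over an invariant set. -/
theorem F_eq_one {U : Subgroup G} {x : G} : ∀ (S : Finset (G ⧸ T)), (∀ u ∈ U, ∀ q ∈ S, u • q ∈ S) →
    (∀ q ∈ S, F μ (orb U q) x = 1) → F μ S x = 1 := by
  classical
  intro S
  induction S using Finset.strongInduction with
  | _ S ih =>
    intro hinv horb
    rcases S.eq_empty_or_nonempty with rfl | ⟨q, hq⟩
    · rfl
    have hsub : orb U q ⊆ S := fun p hp => by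
      obtain ⟨u, hu, rfl⟩ := mem_orb.1 hp
      exact hinv u hu q hq
    have hlt : S \ orb U q ⊂ S :=
      Finset.sdiff_ssubset hsub ⟨q, self_mem_orb U q⟩
    show ∏ p ∈ S, cf μ x p = 1
    rw [← Finset.prod_sdiff hsub, show ∏ p ∈ orb U q, cf μ x p = 1 from horb q hq, mul_one]
    refine ih _ hlt (fun u hu p hp => ?_) fun p hp => horb p (Finset.mem_sdiff.1 hp).1
    rw [Finset.mem_sdiff] at hp ⊢
    exact ⟨hinv u hu p hp.1, fun h => hp.2 ((orb_smul hu q p).1 h)⟩

end CfsgLib.PGroup.RudvalisType.Fusion
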