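import Cfsg.Agent.Lib.PGroup.RudvalisType.Fusion.Odd
import Mathlib.GroupTheory.Transfer

/-!
# The normalisers of `W` and of its derived group
-/

set_option autoImplicit false

namespace CfsgLib.PGroup.RudvalisType.Fusion

open Subgroup
open scoped commutatorElement

/-- A normal subgroup of two-power index contains the elements of odd order. -/
theorem mem_of_odd {X : Type*} [Group X] (K : Subgroup X) [K.Normal] {j : ℕ} (hK : K.index = 2 ^ j) {x : X}
    (hx : Odd (orderOf x)) : x ∈ K := by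
  have h1 : x ^ 2 ^ j ∈ K := hK ▸ K.pow_index_mem x
  have hc : (2 ^ j).Coprime (orderOf x) := Nat.Coprime.pow_left j (Nat.coprime_two_left.2 hx)
  obtain ⟨m, hm⟩ := exists_pow_eq_self_of_coprime hc
  rw [← hm]
  exact pow_mem h1 m

/-- The odd elements of a group with a normal Sylow two-subgroup that they centralise form a normal subgroup. -/
theorem exists_complement {X : Type*} [Group X] [Finite X] (Q : Sylow 2 X) [(Q : Subgroup X).Normal]
    (hc : ∀ x : X, Odd (orderOf x) → ∀ q ∈ (Q : Subgroup X), x * q = q * x) :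
    ∃ K : Subgroup X, K.Normal ∧ Odd (Nat.card K) ∧ (Q : Subgroup X) ⊔ K = ⊤ ∧ ∀ x : X, Odd (orderOf x) → x ∈ K := by
  classical
  haveI : Fact (Nat.Prime 2) := ⟨Nat.prime_two⟩
  obtain ⟨K, hK⟩ := Subgroup.exists_left_complement'_of_coprime (N := (Q : Subgroup X)) Q.card_coprime_index
  have hKodd : Odd (Nat.card K) := by
    rw [← hK.index_eq_card]
    exact Nat.odd_iff.2 (Nat.two_dvd_ne_zero.1 Q.not_dvd_index)
  have hord : ∀ k ∈ K, Odd (orderOf k) := fun k hk => hKodd.of_dvd_nat (Subgroup.orderOf_dvd_natCard K hk)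
  have hKn : K.Normal := ⟨fun k hk n => by
    obtain ⟨⟨⟨a, ha⟩, ⟨b, hb⟩⟩, rfl⟩ := hK.2 n
    show a * b * k * (a * b)⁻¹ ∈ K
    rw [show a * b * k * (a * b)⁻¹ = a * (b * k) * b⁻¹ * a⁻¹ by group, ← hc k (hord k hk) b hb,
      show a * (k * b) * b⁻¹ * a⁻¹ = a * k * a⁻¹ by group]
    exact mul_mem (mul_mem ha hk) (inv_mem ha)⟩
  obtain ⟨j, hj⟩ := IsPGroup.iff_card.1 Q.2
  refine ⟨K, hKn, hKodd, ?_, fun x hx => mem_of_odd K (hK.symm.index_eq_card.trans hj) hx⟩
  exact hK.symm.sup_eq_top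

variable {G : Type*} [Group G] [Finite G] {T : Sylow 2 G} {W D : Subgroup G}

namespace Ctx

variable (h : Ctx T W D)
include h

/-- The conclusion. -/
theorem main (h2 : ∀ H : Subgroup G, H.index ≠ 2) :
    ((normalizer (W : Set G)).subgroupOf (normalizer (D : Set G)) ⊔ Cfsg.oddCore ↥(normalizer (D : Set G)) = ⊤) ∧
      ∃ φ : ↥(normalizer (W : Set G)) →* GL (Fin 3) (ZMod 2), Function.Surjective φ ∧
        φ.ker = W.subgroupOf (normalizer (W : Set G)) ⊔ Cfsg.oddCore ↥(normalizer (W : Set G)) := by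
  classical
  haveI : Fact (Nat.Prime 2) := ⟨Nat.prime_two⟩
  obtain ⟨φ, hφ, hker⟩ := h.exists_action h2
  obtain ⟨hsurj, hoc⟩ := h.odd_centralize hφ hker
  obtain ⟨φN, hφN⟩ : ∃ φN, φN = φ.comp (inclusion h.normWD) := ⟨_, rfl⟩
  rw [← hφN] at hsurj
  have hkerN : ∀ n : ↥(normalizer (W : Set G)), φN n = 1 ↔ ∀ d ∈ D, (n : G) * d = d * n := fun n => by
    rw [hφN, MonoidHom.comp_apply, hker]; rfl
  have hsylow : ∀ (M : Subgroup G) (hWM : W ≤ M) (hTM : (T : Subgroup G) ≤ M) (ψ : M →* GL (Fin 3) (ZMod 2)),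
      Function.Surjective ψ → (∀ m : M, ψ m = 1 ↔ ∀ d ∈ D, (m : G) * d = d * m) →
      ∃ P : Sylow 2 ψ.ker, ∀ x : ψ.ker, x ∈ (P : Subgroup ψ.ker) ↔ ((x : M) : G) ∈ W := by
    intro M hWM hTM ψ hψ hψk
    have hWk : W.subgroupOf M ≤ ψ.ker := fun m hm =>
      MonoidHom.mem_ker.2 ((hψk m).2 fun d hd => (h.central d hd _ hm).symm)
    have h1 := Subgroup.index_mul_card ψ.ker
    rw [index_ker, MonoidHom.range_eq_top.2 hψ, card_top, Cfsg.Agent.S2553.gl_three_two.2] at h1
    have h168 : (168 : ℕ).factorization 2 = 3 := by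
      rw [show (168 : ℕ) = 2 ^ 3 * 21 by norm_num, Nat.factorization_mul (by norm_num) (by norm_num),
        Nat.Prime.factorization_pow Nat.prime_two]
      simp [Nat.factorization_eq_zero_of_not_dvd (show ¬ 2 ∣ 21 by norm_num)]
    have h2 := (T.subtype hTM).card_eq_multiplicity
    rw [Sylow.coe_subtype, Nat.card_congr (subgroupOfEquivOfLe hTM).toEquiv, h.cardT, ← h1,
      Nat.factorization_mul (by norm_num) Nat.card_pos.ne', Finsupp.add_apply, h168] at h2
    refine ⟨Sylow.ofCard ((W.subgroupOf M).subgroupOf ψ.ker) ?_, fun x => Iff.rfl⟩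
    rw [Nat.card_congr (subgroupOfEquivOfLe hWk).toEquiv, Nat.card_congr (subgroupOfEquivOfLe hWM).toEquiv, h.cardW]
    have h3 := (Nat.pow_right_injective (le_refl 2)) h2
    congr 1
    omega
  -- the kernel in the normaliser of `W`
  obtain ⟨Q₂, hQ₂⟩ := hsylow _ le_normalizer h.normW φN hsurj hkerN
  haveI hQ₂n : (Q₂ : Subgroup φN.ker).Normal := ⟨fun q hq x => by
    rw [hQ₂] at hq ⊢
    exact (mem_normalizer_iff.1 (x : ↥(normalizer (W : Set G))).2 _).1 hq⟩
  have hord : ∀ (M : Subgroup G) (ψ : M →* GL (Fin 3) (ZMod 2)) (x : ψ.ker), orderOf ((x : M) : G) = orderOf x :=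
    fun M ψ x => by rw [Subgroup.orderOf_coe, Subgroup.orderOf_coe]
  obtain ⟨K, hKn, hKodd, hKtop, hKmem⟩ := exists_complement Q₂ fun x hx q hq => Subtype.ext (Subtype.ext
    (hoc _ (x : ↥(normalizer (W : Set G))).2 ((hkerN _).1 (MonoidHom.mem_ker.1 x.2))
      (by rwa [hord]) _ ((hQ₂ q).1 hq)))
  refine ⟨?_, φN, hsurj, ?_⟩
  rotate_left
  · refine le_antisymm ?_ (sup_le ?_ ?_)
    · intro n hn
      haveI : (K.map φN.ker.subtype).Normal := ⟨by
        rintro _ ⟨k, hk, rfl⟩ m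
        have hmem : m * (k : ↥(normalizer (W : Set G))) * m⁻¹ ∈ φN.ker :=
          (MonoidHom.normal_ker φN).conj_mem _ k.2 m
        refine ⟨⟨_, hmem⟩, hKmem _ ?_, rfl⟩
        have e : (⟨_, hmem⟩ : φN.ker) = MulAut.conjNormal m k := Subtype.ext (MulAut.conjNormal_apply m k).symm
        rw [e, MulEquiv.orderOf_eq]
        exact hKodd.of_dvd_nat (Subgroup.orderOf_dvd_natCard K hk)⟩
      have hle : K.map φN.ker.subtype ≤ Cfsg.oddCore ↥(normalizer (W : Set G)) :=
        CfsgLib.Coprime.le_pPrimeCore_of_not_dvd Nat.prime_two (by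
          rw [card_map_of_injective (subtype_injective _), ← even_iff_two_dvd, Nat.not_even_iff_odd]
          exact hKodd)
      have h1 : (⟨n, hn⟩ : φN.ker) ∈ (Q₂ : Subgroup φN.ker) ⊔ K := by rw [hKtop]; trivial
      obtain ⟨q, hq, k, hk, e⟩ := mem_sup_of_normal_right.1 h1
      have e' : n = (q : ↥(normalizer (W : Set G))) * k := (congrArg Subtype.val e).symm
      rw [e']
      exact mul_mem (mem_sup_left ((hQ₂ q).1 hq)) (mem_sup_right (hle ⟨k, hk, rfl⟩))
    · intro n hn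
      exact MonoidHom.mem_ker.2 ((hkerN n).2 fun d hd => (h.central d hd _ hn).symm)
    · intro o ho
      refine MonoidHom.mem_ker.2 ((hkerN o).2 fun d hd => ?_)
      have hcop : ¬ 2 ∣ Nat.card (Cfsg.oddCore ↥(normalizer (W : Set G))) :=
        CfsgLib.Coprime.pPrimeCore_not_dvd Nat.prime_two
      have hdN : d ∈ normalizer (W : Set G) := le_normalizer (h.hDW hd)
      obtain ⟨c, hc⟩ : ∃ c, c = ⁅o, (⟨d, hdN⟩ : ↥(normalizer (W : Set G)))⁆ := ⟨_, rfl⟩
      have hcO : c ∈ Cfsg.oddCore ↥(normalizer (W : Set G)) := by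
        rw [hc, commutatorElement_def, mul_assoc, mul_assoc, ← mul_assoc (⟨d, hdN⟩ : ↥(normalizer (W : Set G)))]
        exact mul_mem ho ((inferInstance : (Cfsg.pPrimeCore 2 _).Normal).conj_mem _ (inv_mem ho) _)
      have hcD : (c : G) ∈ D := by
        rw [hc]
        show (o : G) * d * (o : G)⁻¹ * d⁻¹ ∈ D
        exact mul_mem ((mem_normalizer_iff.1 (h.normWD o.2) d).1 hd) (inv_mem hd)
      have hc2 : c * c = 1 := Subtype.ext (h.elem _ hcD)
      have hc1 : c = 1 := by
        have hodd : Odd (orderOf c) := (Nat.odd_iff.2 (Nat.two_dvd_ne_zero.1 hcop)).of_dvd_nat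
          (Subgroup.orderOf_dvd_natCard _ hcO)
        refine orderOf_eq_one_iff.1 ?_
        rcases (Nat.dvd_prime Nat.prime_two).1 (orderOf_dvd_of_pow_eq_one (show c ^ 2 = 1 by rw [_root_.sq, hc2]))
          with h' | h'
        · exact h'
        · rw [h'] at hodd; exact absurd hodd (by decide)
      rw [hc, commutatorElement_eq_one_iff_mul_comm] at hc1
      exact congrArg Subtype.val hc1
  -- the kernel in the normaliser of `D`
  · obtain ⟨Q, hQ⟩ := hsylow _ (h.hWT.trans h.normD) h.normD φ hφ hker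
    obtain ⟨Dc, hDc⟩ : ∃ Dc : Subgroup φ.ker, ∀ x : φ.ker, x ∈ Dc ↔ ((x : ↥(normalizer (D : Set G))) : G) ∈ D :=
      ⟨(D.subgroupOf _).subgroupOf φ.ker, fun x => Iff.rfl⟩
    have hcentD : ∀ x d : φ.ker, d ∈ Dc → x * d = d * x := fun x d hd => Subtype.ext (Subtype.ext
      ((hker x).1 (MonoidHom.mem_ker.1 x.2) _ ((hDc d).1 hd)))
    haveI hDcn : Dc.Normal := ⟨fun d hd x => by rwa [hcentD x d hd, mul_inv_cancel_right]⟩
    have hDQ : Dc ≤ (Q : Subgroup φ.ker) := fun x hx => (hQ x).2 (h.hDW ((hDc x).1 hx))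
    obtain ⟨Qb, hQb⟩ : ∃ Qb : Sylow 2 (φ.ker ⧸ Dc), Qb = Q.mapSurjective (QuotientGroup.mk'_surjective Dc) :=
      ⟨_, rfl⟩
    have hQbm : ∀ x : φ.ker, (QuotientGroup.mk x : φ.ker ⧸ Dc) ∈ (Qb : Subgroup (φ.ker ⧸ Dc)) ↔
        x ∈ (Q : Subgroup φ.ker) := fun x => by
      rw [hQb, Sylow.coe_mapSurjective]
      constructor
      · rintro ⟨q, hq, e⟩
        have h1 : q⁻¹ * x ∈ Dc := QuotientGroup.eq.1 e
        have := mul_mem hq (hDQ h1)
        rwa [mul_inv_cancel_left] at this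
      · exact fun hx => ⟨x, hx, rfl⟩
    have hburn : normalizer ((Qb : Subgroup (φ.ker ⧸ Dc)) : Set (φ.ker ⧸ Dc)) ≤
        centralizer ((Qb : Subgroup (φ.ker ⧸ Dc)) : Set (φ.ker ⧸ Dc)) := by
      intro a ha
      induction a using QuotientGroup.induction_on with
      | _ x =>
        have hxW : ((x : ↥(normalizer (D : Set G))) : G) ∈ normalizer (W : Set G) := by
          have hfin : ∀ w ∈ W, ((x : ↥(normalizer (D : Set G))) : G) * w * ((x : ↥(normalizer (D : Set G))) : G)⁻¹ ∈ W := by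
            intro w hw
            have hwk : (⟨w, h.normD (h.hWT hw)⟩ : ↥(normalizer (D : Set G))) ∈ φ.ker :=
              MonoidHom.mem_ker.2 ((hker _).2 fun d hd => (h.central d hd _ hw).symm)
            have h1 := (mem_normalizer_iff.1 ha _).1 ((hQbm ⟨_, hwk⟩).2 ((hQ _).2 hw))
            rw [← QuotientGroup.mk_mul, ← QuotientGroup.mk_inv, ← QuotientGroup.mk_mul, hQbm, hQ] at h1
            exact h1
          exact mem_normalizer_fintype hfin
        refine mem_centralizer_iff.2 fun b hb => ?_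
        induction b using QuotientGroup.induction_on with
        | _ y =>
          have hy := (hQ y).1 ((hQbm y).1 hb)
          obtain ⟨n, hn⟩ : ∃ n : ↥(normalizer (W : Set G)), (n : G) = ((x : ↥(normalizer (D : Set G))) : G) :=
            ⟨⟨_, hxW⟩, rfl⟩
          have hnk : n ∈ φN.ker := MonoidHom.mem_ker.2 ((hkerN n).2 (by
            rw [hn]; exact (hker x).1 (MonoidHom.mem_ker.1 x.2)))
          have h1 : (⟨n, hnk⟩ : φN.ker) ∈ (Q₂ : Subgroup φN.ker) ⊔ K := by rw [hKtop]; trivial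
          obtain ⟨q, hq, k, hk, e⟩ := mem_sup_of_normal_right.1 h1
          have hkc := hoc _ (k : ↥(normalizer (W : Set G))).2 ((hkerN _).1 (MonoidHom.mem_ker.1 k.2))
            (by rw [hord]; exact hKodd.of_dvd_nat (Subgroup.orderOf_dvd_natCard K hk)) _ hy
          refine QuotientGroup.eq.2 ?_
          rw [hDc]
          show (((y : ↥(normalizer (D : Set G))) : G) * ((x : ↥(normalizer (D : Set G))) : G))⁻¹ *
            (((x : ↥(normalizer (D : Set G))) : G) * ((y : ↥(normalizer (D : Set G))) : G)) ∈ D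
          have e' : (n : G) = ((q : ↥(normalizer (W : Set G))) : G) * ((k : ↥(normalizer (W : Set G))) : G) :=
            (congrArg (fun z : φN.ker => ((z : ↥(normalizer (W : Set G))) : G)) e).symm
          have hqW := (hQ₂ q).1 hq
          rw [← hn, e']
          generalize ((q : ↥(normalizer (W : Set G))) : G) = a at hqW ⊢
          generalize ((y : ↥(normalizer (D : Set G))) : G) = b at hy hkc ⊢
          have hkD := (hkerN _).1 (MonoidHom.mem_ker.1 k.2)
          generalize ((k : ↥(normalizer (W : Set G))) : G) = c at hkc hkD ⊢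
          rw [show (b * (a * c))⁻¹ * (a * c * b) = c⁻¹ * (a⁻¹ * b⁻¹ * a) * (c * b) by group, hkc]
          rw [show c⁻¹ * (a⁻¹ * b⁻¹ * a) * (b * c) = c⁻¹ * ⁅a⁻¹, b⁻¹⁆ * c by simp [commutatorElement_def, mul_assoc]]
          have hd := h.cm _ (inv_mem hqW) _ (inv_mem hy)
          rwa [mul_assoc, ← hkD _ hd, inv_mul_cancel_left]
    have hcompl := MonoidHom.ker_transferSylow_isComplement' Qb hburn
    obtain ⟨Kb, hKb⟩ : ∃ Kb, Kb = (MonoidHom.transferSylow Qb hburn).ker := ⟨_, rfl⟩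
    rw [← hKb] at hcompl
    haveI : Kb.Normal := hKb ▸ MonoidHom.normal_ker _
    obtain ⟨j, hj⟩ := IsPGroup.iff_card.1 Qb.2
    have hKbj : Kb.index = 2 ^ j := hcompl.symm.index_eq_card.trans hj
    obtain ⟨L, hL⟩ : ∃ L, L = Kb.comap (QuotientGroup.mk' Dc) := ⟨_, rfl⟩
    haveI : L.Normal := hL ▸ inferInstance
    have hDL : Dc ≤ L := hL ▸ QuotientGroup.le_comap_mk' Dc Kb
    have hLD : IsPGroup 2 (Dc.subgroupOf L) := by
      refine fun d => ⟨1, Subtype.ext (Subtype.ext ?_)⟩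
      rw [pow_one, _root_.sq]
      exact Subtype.ext (Subtype.ext (h.elem _ ((hDc _).1 d.2)))
    have hKbodd : Odd (Nat.card Kb) := by
      rw [← hcompl.index_eq_card]
      exact Nat.odd_iff.2 (Nat.two_dvd_ne_zero.1 Qb.not_dvd_index)
    have hLidx : ¬ 2 ∣ (Dc.subgroupOf L).index := by
      have h1 : (Dc.subgroupOf L).index = Nat.card Kb := by
        show Dc.relIndex L = _
        have h2 : Dc.index = Dc.relIndex L * L.index := (relIndex_mul_index hDL).symm
        have h3 : L.index = Kb.index := by rw [hL, index_comap_of_surjective _ (QuotientGroup.mk'_surjective Dc)]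
        have h4 := Subgroup.index_mul_card Kb
        rw [show Nat.card (φ.ker ⧸ Dc) = Dc.index from rfl, h2, h3, mul_comm] at h4
        exact (Nat.eq_of_mul_eq_mul_right (Nat.pos_of_ne_zero index_ne_zero_of_finite) h4).symm
      rw [h1, ← even_iff_two_dvd, Nat.not_even_iff_odd]
      exact hKbodd
    haveI : ((hLD.toSylow hLidx : Sylow 2 L) : Subgroup L).Normal := by
      rw [IsPGroup.toSylow_coe]; infer_instance
    obtain ⟨K₂, hK₂n, hK₂odd, hK₂top, hK₂mem⟩ := exists_complement (hLD.toSylow hLidx) fun x _ d hd => by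
      rw [IsPGroup.toSylow_coe] at hd
      exact Subtype.ext (hcentD x d hd)
    obtain ⟨O, hO⟩ : ∃ O : Subgroup ↥(normalizer (D : Set G)), O = (K₂.map L.subtype).map φ.ker.subtype := ⟨_, rfl⟩
    haveI : O.Normal := ⟨by
      rw [hO]
      rintro _ ⟨_, ⟨k, hk, rfl⟩, rfl⟩ m
      obtain ⟨z, hz⟩ : ∃ z : φ.ker, z = MulAut.conjNormal m (k : φ.ker) := ⟨_, rfl⟩
      have hzodd : Odd (orderOf z) := by
        rw [hz, MulEquiv.orderOf_eq, Subgroup.orderOf_coe]
        exact hK₂odd.of_dvd_nat (Subgroup.orderOf_dvd_natCard K₂ hk)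
      have hzL : z ∈ L := by
        rw [hL]
        refine mem_of_odd Kb hKbj ?_
        exact hzodd.of_dvd_nat (orderOf_map_dvd (QuotientGroup.mk' Dc) z)
      refine ⟨z, ⟨⟨z, hzL⟩, hK₂mem _ (by rwa [← Subgroup.orderOf_coe]), rfl⟩, ?_⟩
      rw [hz, Subgroup.coe_subtype, MulAut.conjNormal_apply]
      rfl⟩
    have hOle : O ≤ Cfsg.oddCore ↥(normalizer (D : Set G)) :=
      CfsgLib.Coprime.le_pPrimeCore_of_not_dvd Nat.prime_two (by
        rw [hO, card_map_of_injective (subtype_injective _), card_map_of_injective (subtype_injective _),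
          ← even_iff_two_dvd, Nat.not_even_iff_odd]
        exact hK₂odd)
    refine (eq_top_iff' _).2 fun m => ?_
    obtain ⟨n, hn⟩ := hsurj (φ m)
    have hnM : (⟨(n : G), h.normWD n.2⟩ : ↥(normalizer (D : Set G))) ∈
        (normalizer (W : Set G)).subgroupOf (normalizer (D : Set G)) := n.2
    have hck : (⟨(n : G), h.normWD n.2⟩ : ↥(normalizer (D : Set G)))⁻¹ * m ∈ φ.ker := by
      rw [MonoidHom.mem_ker, map_mul, map_inv, ← hn, hφN]
      exact inv_mul_cancel _
    obtain ⟨c, hc⟩ : ∃ c : φ.ker, (c : ↥(normalizer (D : Set G))) =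
        (⟨(n : G), h.normWD n.2⟩ : ↥(normalizer (D : Set G)))⁻¹ * m := ⟨⟨_, hck⟩, rfl⟩
    rw [show m = ⟨(n : G), h.normWD n.2⟩ * (c : ↥(normalizer (D : Set G))) by rw [hc, mul_inv_cancel_left]]
    refine mul_mem (mem_sup_left hnM) ?_
    have h1 : (QuotientGroup.mk c : φ.ker ⧸ Dc) ∈ Kb ⊔ (Qb : Subgroup (φ.ker ⧸ Dc)) := by
      rw [hcompl.sup_eq_top]; trivial
    obtain ⟨a, ha, b, hb, e⟩ := mem_sup_of_normal_left.1 h1
    induction b using QuotientGroup.induction_on with
    | _ q =>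
      have hq := (hQ q).1 ((hQbm q).1 hb)
      have hl : c * q⁻¹ ∈ L := by
        rw [hL]
        show (QuotientGroup.mk (c * q⁻¹) : φ.ker ⧸ Dc) ∈ Kb
        rw [QuotientGroup.mk_mul, QuotientGroup.mk_inv, ← e, mul_inv_cancel_right]
        exact ha
      have h3 : (⟨_, hl⟩ : L) ∈ ((hLD.toSylow hLidx : Sylow 2 L) : Subgroup L) ⊔ K₂ := by rw [hK₂top]; trivial
      obtain ⟨d, hd, k, hk, e2⟩ := mem_sup_of_normal_right.1 h3
      rw [IsPGroup.toSylow_coe] at hd
      have e3 : (c : ↥(normalizer (D : Set G))) =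
          ((d : φ.ker) : ↥(normalizer (D : Set G))) * ((k : φ.ker) : ↥(normalizer (D : Set G))) *
            (q : ↥(normalizer (D : Set G))) := by
        have e4 := congrArg (fun z : L => ((z : φ.ker) : ↥(normalizer (D : Set G)))) e2
        simp only [Subgroup.coe_mul, Subgroup.coe_inv] at e4
        rw [e4, inv_mul_cancel_right]
      rw [e3]
      refine mul_mem (mul_mem (mem_sup_left ?_) (mem_sup_right (hOle (hO ▸ ⟨_, ⟨k, hk, rfl⟩, rfl⟩)))) (mem_sup_left ?_)
      · exact le_normalizer (h.hDW ((hDc _).1 hd))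
      · exact le_normalizer hq

end Ctx

end CfsgLib.PGroup.RudvalisType.Fusion
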