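import Cfsg.Agent.Lib.PGroup.RudvalisType.Fusion.AutQuot
import Cfsg.Agent.Lib.Coprime.Core

/-!
# Odd elements of the normaliser of `W` centralising `D` centralise `W`
-/

set_option autoImplicit false

namespace CfsgLib.PGroup.RudvalisType.Fusion

open Subgroup
open scoped commutatorElement

variable {G : Type*} [Group G] [Finite G] {T : Sylow 2 G} {W D : Subgroup G}

/-- Automorphisms act on the Frattini quotient. -/
noncomputable def frQuot {K : Type*} [Group K] : MulAut K →* MulAut (K ⧸ frattini K) :=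
  MonoidHom.mk' (fun f => QuotientGroup.congr (frattini K) (frattini K) f
    (Subgroup.characteristic_iff_map_eq.1 inferInstance f))
    fun f f' => MulEquiv.ext fun w => by
      induction w using QuotientGroup.induction_on with
      | _ k => rfl

theorem frQuot_mk {K : Type*} [Group K] (f : MulAut K) (k : K) :
    frQuot f (QuotientGroup.mk k) = QuotientGroup.mk (f k) := rfl

namespace Ctx

variable (h : Ctx T W D)
include h

/-- Elements of the normaliser of `W` of odd order centralising `D` centralise `W`, and the normaliser covers the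
linear group. -/
theorem odd_centralize {φ : ↥(normalizer (D : Set G)) →* GL (Fin 3) (ZMod 2)} (hφ : Function.Surjective φ)
    (hker : ∀ m, φ m = 1 ↔ ∀ d ∈ D, (m : G) * d = d * m) :
    Function.Surjective (φ.comp (inclusion h.normWD)) ∧ ∀ k ∈ normalizer (W : Set G),
      (∀ d ∈ D, k * d = d * k) → Odd (orderOf k) → ∀ w ∈ W, k * w = w * k := by
  classical
  haveI : Fact (Nat.Prime 2) := ⟨Nat.prime_two⟩
  obtain ⟨-, h168⟩ := Cfsg.Agent.S2553.gl_three_two
  haveI := Cfsg.Agent.S2553.gl_three_two.1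
  have h168' : (168 : ℕ).factorization 2 = 3 := by
    rw [show (168 : ℕ) = 2 ^ 3 * 21 by norm_num, Nat.factorization_mul (by norm_num) (by norm_num),
      Nat.Prime.factorization_pow Nat.prime_two]
    simp [Nat.factorization_eq_zero_of_not_dvd (show ¬ 2 ∣ 21 by norm_num)]
  -- Sylow subgroups of the kernel
  have hsyl : ∀ (M : Subgroup G), (T : Subgroup G) ≤ M → ∀ ψ : M →* GL (Fin 3) (ZMod 2), Function.Surjective ψ →
      (∀ m : M, ψ m = 1 ↔ ∀ d ∈ D, (m : G) * d = d * m) → ∀ hWk : W.subgroupOf M ≤ ψ.ker,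
      ∃ P : Sylow 2 ψ.ker, (P : Subgroup ψ.ker) = (W.subgroupOf M).subgroupOf ψ.ker := by
    intro M hTM ψ hψ hψk hWk
    have hWM : W ≤ M := h.hWT.trans hTM
    have h1 := Subgroup.index_mul_card ψ.ker
    rw [index_ker, MonoidHom.range_eq_top.2 hψ, card_top, h168] at h1
    have h2 := (T.subtype hTM).card_eq_multiplicity
    rw [Sylow.coe_subtype, Nat.card_congr (subgroupOfEquivOfLe hTM).toEquiv, h.cardT, ← h1,
      Nat.factorization_mul (by norm_num) Nat.card_pos.ne', Finsupp.add_apply, h168'] at h2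
    refine ⟨Sylow.ofCard ((W.subgroupOf M).subgroupOf ψ.ker) ?_, rfl⟩
    rw [Nat.card_congr (subgroupOfEquivOfLe hWk).toEquiv, Nat.card_congr (subgroupOfEquivOfLe hWM).toEquiv, h.cardW]
    have h3 := (Nat.pow_right_injective (le_refl 2)) h2
    congr 1
    omega
  have hWφ : W.subgroupOf (normalizer (D : Set G)) ≤ φ.ker := fun m hm =>
    MonoidHom.mem_ker.2 ((hker m).2 fun d hd => (h.central d hd _ hm).symm)
  obtain ⟨Q, hQ⟩ := hsyl _ h.normD φ hφ hker hWφ
  obtain ⟨φN, hφN⟩ : ∃ φN, φN = φ.comp (inclusion h.normWD) := ⟨_, rfl⟩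
  have hkerN : ∀ n : ↥(normalizer (W : Set G)), φN n = 1 ↔ ∀ d ∈ D, (n : G) * d = d * n := fun n => by
    rw [hφN, MonoidHom.comp_apply, hker]; rfl
  have hsurj : Function.Surjective φN := by
    intro y
    obtain ⟨m, rfl⟩ := hφ y
    have h1 := Sylow.normalizer_sup_eq_top (N := φ.ker) Q
    rw [hQ, map_subgroupOf_eq_of_le hWφ] at h1
    obtain ⟨n, hn, c, hc, rfl⟩ := (by
      have h2 : m ∈ normalizer ((W.subgroupOf (normalizer (D : Set G))) : Set _) ⊔ φ.ker := h1 ▸ mem_top m
      exact mem_sup_of_normal_right.1 h2)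
    have hnW : (n : G) ∈ normalizer (W : Set G) := by
      refine mem_normalizer_iff.2 fun g => ⟨fun hg => ?_, fun hg => ?_⟩
      · exact (mem_normalizer_iff.1 hn ⟨g, h.normWD (le_normalizer hg)⟩).1 hg
      · have hgM : g ∈ normalizer (D : Set G) := by
          have := mul_mem (mul_mem (inv_mem n.2) (h.normWD (le_normalizer hg))) n.2
          simpa [mul_assoc] using this
        exact (mem_normalizer_iff.1 hn ⟨g, hgM⟩).2 hg
    refine ⟨⟨n, hnW⟩, ?_⟩
    rw [map_mul, MonoidHom.mem_ker.1 hc, mul_one, hφN]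
    rfl
  refine ⟨hφN ▸ hsurj, ?_⟩
  -- the module
  have hDn : (D.subgroupOf W).Normal := ⟨fun d hd w => by
    rw [mem_subgroupOf] at hd ⊢
    show (w : G) * d * (w : G)⁻¹ ∈ D
    rw [← h.central _ hd _ w.2, mul_inv_cancel_right]
    exact hd⟩
  letI : CommGroup (W ⧸ D.subgroupOf W) :=
    { (inferInstance : Group (W ⧸ D.subgroupOf W)) with
      mul_comm := fun a b => by
        induction a using QuotientGroup.induction_on with
        | _ a =>
          induction b using QuotientGroup.induction_on with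
          | _ b =>
            show (QuotientGroup.mk (a * b) : W ⧸ D.subgroupOf W) = QuotientGroup.mk (b * a)
            refine QuotientGroup.eq.2 ?_
            rw [mem_subgroupOf, show (((a * b)⁻¹ * (b * a) : W) : G) = ⁅((b : G))⁻¹, ((a : G))⁻¹⁆ by
              simp [commutatorElement_def, mul_assoc]]
            exact h.cm _ (inv_mem b.2) _ (inv_mem a.2) }
  have hexp : ∀ v : W ⧸ D.subgroupOf W, v * v = 1 := fun v => by
    induction v using QuotientGroup.induction_on with
    | _ a => rw [← QuotientGroup.mk_mul, QuotientGroup.eq_one_iff]; exact h.sq _ a.2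
  have hV : Nat.card (W ⧸ D.subgroupOf W) = 2 ^ 8 := by
    have h1 := Subgroup.index_mul_card (D.subgroupOf W)
    rw [Nat.card_congr (subgroupOfEquivOfLe h.hDW).toEquiv, h.cardD, h.cardW] at h1
    show (D.subgroupOf W).index = 2 ^ 8
    omega
  have hmap : ∀ n : ↥(normalizer (W : Set G)),
      (D.subgroupOf W).map (W.normalizerMonoidHom n : MulAut W).toMonoidHom = D.subgroupOf W := fun n => by
    refine eq_of_le_of_card_ge ?_ ?_
    · rintro _ ⟨d, hd, rfl⟩
      exact (mem_normalizer_iff.1 (h.normWD n.2) _).1 hd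
    · exact (card_map_of_injective (f := (W.normalizerMonoidHom n : MulAut W).toMonoidHom) (W.normalizerMonoidHom n).injective).ge
  let ρ : ↥(normalizer (W : Set G)) →* MulAut (W ⧸ D.subgroupOf W) :=
    MonoidHom.mk' (fun n => QuotientGroup.congr (D.subgroupOf W) (D.subgroupOf W) (W.normalizerMonoidHom n) (hmap n))
      fun a b => MulEquiv.ext fun w => by
        induction w using QuotientGroup.induction_on with
        | _ k =>
          show QuotientGroup.mk (W.normalizerMonoidHom (a * b) k) =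
            QuotientGroup.mk (W.normalizerMonoidHom a (W.normalizerMonoidHom b k))
          rw [map_mul]; rfl
  have hρW : ∀ n : ↥(normalizer (W : Set G)), (n : G) ∈ W → ρ n = 1 := fun n hn => MulEquiv.ext fun v => by
    induction v using QuotientGroup.induction_on with
    | _ a =>
      show (QuotientGroup.mk (W.normalizerMonoidHom n a) : W ⧸ D.subgroupOf W) = QuotientGroup.mk a
      refine QuotientGroup.eq.2 ?_
      rw [mem_subgroupOf]
      show ((n : G) * a * (n : G)⁻¹)⁻¹ * a ∈ D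
      rw [show ((n : G) * a * (n : G)⁻¹)⁻¹ * a = ⁅(n : G), ((a : G))⁻¹⁆ by simp [commutatorElement_def, mul_assoc]]
      exact h.cm _ hn _ (inv_mem a.2)
  obtain ⟨Tn, hTn⟩ : ∃ Tn, Tn = (T : Subgroup G).subgroupOf (normalizer (W : Set G)) := ⟨_, rfl⟩
  have hTn2 : IsPGroup 2 Tn := hTn ▸ T.2.comap_subtype
  have huT : ∀ v : W ⧸ D.subgroupOf W, v ≠ 1 → (∀ t ∈ Tn, ρ t v = v) → ∀ v' : W ⧸ D.subgroupOf W, v' ≠ 1 →
      (∀ t ∈ Tn, ρ t v' = v') → v = v' := by
    intro v hv hvt v' hv' hvt'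
    induction v using QuotientGroup.induction_on with
    | _ a =>
      induction v' using QuotientGroup.induction_on with
      | _ b =>
        refine QuotientGroup.eq.2 ?_
        have key : ∀ c : W, (∀ t ∈ Tn, ρ t (QuotientGroup.mk c) = QuotientGroup.mk c) →
            ∀ t ∈ (T : Subgroup G), ⁅(c : G), t⁆ ∈ D := fun c hc t ht => by
          have h1 := QuotientGroup.eq.1 (hc ⟨t, h.normW ht⟩ (hTn ▸ ht)).symm
          rw [mem_subgroupOf] at h1
          have h2 : (c : G)⁻¹ * (t * c * t⁻¹) ∈ D := h1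
          have h3 := (mem_normalizer_iff.1 (h.normWD (le_normalizer c.2)) _).1 (inv_mem h2)
          have e : ⁅(c : G), t⁆ = (c : G) * ((c : G)⁻¹ * (t * c * t⁻¹))⁻¹ * (c : G)⁻¹ := by
            simp [commutatorElement_def, mul_assoc]
          rwa [e]
        exact h.fix a a.2 b b.2 (fun ha => hv ((QuotientGroup.eq_one_iff a).2 ha))
          (fun hb => hv' ((QuotientGroup.eq_one_iff b).2 hb)) (key a hvt) (key b hvt')
  obtain ⟨σ, hσ, hσT⟩ : ∃ σ : W ⧸ D.subgroupOf W, σ ≠ 1 ∧ ∀ t ∈ Tn, ρ t σ = σ := by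
    letI : MulAction Tn (W ⧸ D.subgroupOf W) :=
      { smul := fun t v => ρ t v
        one_smul := fun v => by
          show ρ 1 v = v
          rw [map_one]; rfl
        mul_smul := fun s t v => by
          show ρ (s * t : ↥(normalizer (W : Set G))) v = ρ s (ρ t v)
          rw [map_mul]; rfl }
    obtain ⟨v, hv, hv1⟩ := hTn2.exists_fixed_point_of_prime_dvd_card_of_fixed_point (W ⧸ D.subgroupOf W)
      (by rw [hV]; norm_num) (a := 1) (fun t => map_one (ρ t))
    exact ⟨v, fun hc => hv1 hc.symm, fun t ht => hv ⟨t, ht⟩⟩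
  -- a two-group covering the linear group has one fixed point
  have hdata : ∀ K : Subgroup ↥(normalizer (W : Set G)), K.map φN = ⊤ → ∃ S ≤ K, IsPGroup 2 (S.map ρ) ∧
      ∃ τ : W ⧸ D.subgroupOf W, τ ≠ 1 ∧ (∀ s ∈ S.map ρ, s τ = τ) ∧
        ∀ v, v ≠ 1 → (∀ s ∈ S.map ρ, s v = v) → v = τ := by
    intro K hK
    obtain ⟨S₀⟩ : Nonempty (Sylow 2 K) := inferInstance
    obtain ⟨S, hS⟩ : ∃ S, S = (S₀ : Subgroup K).map K.subtype := ⟨_, rfl⟩
    have hS2 : IsPGroup 2 S := hS ▸ S₀.2.map K.subtype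
    have hS8 : 8 ∣ Nat.card (S.map φN) := by
      have hsur : Function.Surjective (φN.comp K.subtype) := fun y => by
        obtain ⟨k, hk, rfl⟩ := (hK ▸ mem_top y : y ∈ K.map φN)
        exact ⟨⟨k, hk⟩, rfl⟩
      obtain ⟨P₀, hP₀⟩ : ∃ P₀ : Sylow 2 (GL (Fin 3) (ZMod 2)), P₀ = S₀.mapSurjective hsur := ⟨_, rfl⟩
      have h1 := P₀.card_eq_multiplicity
      rw [h168, h168', hP₀, Sylow.coe_mapSurjective, ← Subgroup.map_map, ← hS] at h1
      rw [h1]
      norm_num
    obtain ⟨Tn', hTn'⟩ : ∃ Tn' : Sylow 2 ↥(normalizer (W : Set G)), Tn' = T.subtype h.normW := ⟨_, rfl⟩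
    obtain ⟨R, hR⟩ := hS2.exists_le_sylow
    obtain ⟨g, hg⟩ := MulAction.exists_smul_eq ↥(normalizer (W : Set G)) R Tn'
    have hconj : ∀ s ∈ S, g * s * g⁻¹ ∈ Tn := fun s hs => by
      have h1 : g * s * g⁻¹ ∈ (g • R : Sylow 2 ↥(normalizer (W : Set G))) :=
        ⟨s, hR hs, rfl⟩
      rw [hg, hTn'] at h1
      exact hTn ▸ h1
    obtain ⟨S', hS'⟩ : ∃ S', S' = S.map (MulAut.conj g).toMonoidHom := ⟨_, rfl⟩
    have hcov : ∀ t ∈ Tn, ∃ s ∈ S, (((g * s * g⁻¹)⁻¹ * t : ↥(normalizer (W : Set G))) : G) ∈ W := by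
      intro t ht
      have hle : S'.map φN ≤ Tn.map φN := map_mono (by
        rw [hS']
        rintro _ ⟨s, hs, rfl⟩
        exact hconj s hs)
      have hc : Nat.card (Tn.map φN) ≤ Nat.card (S'.map φN) := by
        have h1 : Nat.card (S'.map φN) = Nat.card (S.map φN) := by
          rw [hS', Subgroup.map_map,
            show φN.comp (MulAut.conj g).toMonoidHom = (MulAut.conj (φN g)).toMonoidHom.comp φN from
              MonoidHom.ext fun x => by simp,
            ← Subgroup.map_map, card_map_of_injective (MulAut.conj (φN g)).injective]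
        obtain ⟨θ, hθ⟩ : ∃ θ, θ = φN.comp Tn.subtype := ⟨_, rfl⟩
        have h2 : Tn.map φN = θ.range := by rw [hθ, MonoidHom.range_comp, range_subtype]
        have h3 : θ.ker = (W.subgroupOf (normalizer (W : Set G))).subgroupOf Tn := by
          ext x
          rw [MonoidHom.mem_ker, hθ, MonoidHom.comp_apply, hkerN]
          refine ⟨fun hc => ?_, fun hx d hd => (h.central d hd _ hx).symm⟩
          exact h.cent _ (show ((x : ↥(normalizer (W : Set G))) : G) ∈ (T : Subgroup G) from hTn.le x.2) hc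
        have h4 := Subgroup.index_mul_card θ.ker
        have hle1 : W.subgroupOf (normalizer (W : Set G)) ≤ Tn := fun x hx => by
          rw [hTn]; exact h.hWT hx
        rw [index_ker, ← h2, h3, Nat.card_congr (subgroupOfEquivOfLe hle1).toEquiv,
          Nat.card_congr (subgroupOfEquivOfLe le_normalizer).toEquiv, h.cardW, hTn,
          Nat.card_congr (subgroupOfEquivOfLe h.normW).toEquiv, h.cardT] at h4
        have h5 := Nat.le_of_dvd Nat.card_pos (h1 ▸ hS8)
        rw [hTn]
        omega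
      have heq := eq_of_le_of_card_ge hle hc
      obtain ⟨_, hx, he⟩ := heq.ge (mem_map_of_mem φN ht)
      rw [hS'] at hx
      obtain ⟨s, hs, rfl⟩ := hx
      refine ⟨s, hs, h.cent _ ?_ ((hkerN _).1 ?_)⟩
      · have h1 := mul_mem (inv_mem (hconj s hs)) ht
        rw [hTn] at h1
        exact h1
      · rw [map_mul, map_inv, ← he]
        exact inv_mul_cancel _
    refine ⟨S, hS ▸ map_subtype_le _, hS2.map ρ, ρ g⁻¹ σ, fun hc => hσ ?_, ?_, ?_⟩
    · exact (ρ g⁻¹).injective (hc.trans (map_one _).symm)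
    · rintro _ ⟨s, hs, rfl⟩
      have h1 := hσT _ (hconj s hs)
      rw [map_mul, map_mul, MulAut.mul_apply, MulAut.mul_apply] at h1
      conv_rhs => rw [← h1]
      rw [show ∀ a, ρ g⁻¹ (ρ g a) = a from fun a => by rw [← MulAut.mul_apply, ← map_mul, inv_mul_cancel, map_one, MulAut.one_apply]]
    · intro v hv hvs
      have hfix : ∀ t ∈ Tn, ρ t (ρ g v) = ρ g v := fun t ht => by
        obtain ⟨s, hs, hw⟩ := hcov t ht
        have e : ρ t = ρ (g * s * g⁻¹) := by
          rw [show t = g * s * g⁻¹ * ((g * s * g⁻¹)⁻¹ * t) by group, map_mul, hρW _ hw, mul_one]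
        rw [e, ← MulAut.mul_apply, ← map_mul, inv_mul_cancel_right, map_mul, MulAut.mul_apply, hvs _ (mem_map_of_mem _ hs)]
      have h1 := huT _ (fun hc => hv ((ρ g).injective (hc.trans (map_one _).symm))) hfix σ hσ hσT
      rw [← h1, ← MulAut.mul_apply, ← map_mul, inv_mul_cancel, map_one, MulAut.one_apply]
  -- the kernel on the centraliser of `D`
  obtain ⟨CN, hCN⟩ : ∃ CN, CN = φN.ker := ⟨_, rfl⟩
  haveI : CN.Normal := hCN ▸ MonoidHom.normal_ker φN
  have hWN : W.subgroupOf (normalizer (W : Set G)) ≤ φN.ker := fun m hm =>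
    MonoidHom.mem_ker.2 ((hkerN m).2 fun d hd => (h.central d hd _ hm).symm)
  obtain ⟨Q₂, hQ₂⟩ := hsyl _ h.normW φN hsurj hkerN hWN
  have hsmall : ∀ (p : ℕ) [Fact p.Prime], p ≠ 2 → ∀ P : Sylow p CN, (P : Subgroup CN).map (ρ.comp CN.subtype) = ⊥ := by
    intro p _ hp2 P
    obtain ⟨P', hP'⟩ : ∃ P', P' = (P : Subgroup CN).map CN.subtype := ⟨_, rfl⟩
    rw [← Subgroup.map_map, ← hP']
    obtain ⟨Pb, hPb⟩ : ∃ Pb, Pb = P'.map ρ := ⟨_, rfl⟩
    rw [← hPb]
    have hPbp : IsPGroup p Pb := hPb ▸ (hP' ▸ P.2.map CN.subtype : IsPGroup p P').map ρ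
    have hodd : Odd (Nat.card Pb) := by
      obtain ⟨n, hn⟩ := IsPGroup.iff_card.1 hPbp
      rw [hn]
      exact ((Nat.Prime.odd_of_ne_two Fact.out hp2)).pow
    obtain ⟨NP, hNP⟩ : ∃ NP, NP = normalizer (P' : Set ↥(normalizer (W : Set G))) := ⟨_, rfl⟩
    have hNPtop : NP.map φN = ⊤ := by
      have h1 := Sylow.normalizer_sup_eq_top P
      rw [← hP', ← hNP] at h1
      have h2 := congrArg (Subgroup.map φN) h1
      rw [Subgroup.map_sup, (Subgroup.map_eq_bot_iff _).2 hCN.le, sup_bot_eq,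
        map_top_of_surjective _ hsurj] at h2
      exact h2
    have hnorm : NP.map ρ ≤ normalizer (Pb : Set (MulAut (W ⧸ D.subgroupOf W))) := by
      rw [hNP, hPb]; exact le_normalizer_map ρ
    by_cases h255 : p ∣ 255
    · let ρ' : NP →* ↥(normalizer (Pb : Set (MulAut (W ⧸ D.subgroupOf W)))) :=
        (inclusion hnorm).comp (ρ.subgroupMap NP)
      let ξ : NP →* MulAut (Pb ⧸ frattini Pb) := frQuot.comp (Pb.normalizerMonoidHom.comp ρ')
      obtain ⟨R, hR⟩ : ∃ R, R = ξ.ker.map NP.subtype := ⟨_, rfl⟩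
      have hRtop : R.map φN = ⊤ := by
        haveI : (ξ.ker.map (φN.comp NP.subtype)).Normal := Subgroup.Normal.map (MonoidHom.normal_ker ξ) _
          (MonoidHom.range_eq_top.1 (by rw [MonoidHom.range_comp, range_subtype, hNPtop]))
        rw [hR, Subgroup.map_map]
        refine (IsSimpleGroup.eq_bot_or_eq_top_of_normal _ inferInstance).resolve_left fun hbot => ?_
        have hle : ξ.ker ≤ (φN.comp NP.subtype).ker := (Subgroup.map_eq_bot_iff _).1 hbot
        have h1 := index_dvd_of_le hle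
        rw [index_ker, index_ker, MonoidHom.range_comp, range_subtype, hNPtop, card_top, h168] at h1
        exact seven_not_dvd h255 hPbp hV hexp
          (((dvd_trans (by norm_num : 7 ∣ 168) h1)).trans (Subgroup.card_subgroup_dvd_card _))
      obtain ⟨S, hSR, hS2, τ, hτ, hτS, huniq⟩ := hdata R hRtop
      refine eq_bot_of_comm hexp hodd hS2 hτ hτS huniq ?_
      obtain ⟨n, hn⟩ := IsPGroup.iff_card.1 hS2
      have hcent : S.map ρ ≤ centralizer (Pb : Set (MulAut (W ⧸ D.subgroupOf W))) := by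
        refine CfsgLib.Coprime.le_centralizer_of_trivial_on_frattini_quotient ?_ ?_ ?_
        · refine le_trans (map_mono ?_) hnorm
          exact hSR.trans (hR ▸ map_subtype_le _)
        · obtain ⟨m, hm⟩ := IsPGroup.iff_card.1 (hPbp.to_subgroup (frattini Pb))
          rw [hn, hm]
          exact Nat.Coprime.pow n m ((Nat.coprime_primes Nat.prime_two Fact.out).2 (Ne.symm hp2))
        · rintro _ ⟨s, hs, rfl⟩ k hk
          have hsR := hSR hs
          rw [hR] at hsR
          obtain ⟨r, hr, rfl⟩ := hsR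
          have h1 := DFunLike.congr_fun (MonoidHom.mem_ker.1 hr) (QuotientGroup.mk ⟨k, hk⟩)
          have h2 : (QuotientGroup.mk ((Pb.normalizerMonoidHom (ρ' r)) ⟨k, hk⟩) : Pb ⧸ frattini Pb) =
              QuotientGroup.mk ⟨k, hk⟩ := h1
          refine ⟨(Pb.normalizerMonoidHom (ρ' r)) ⟨k, hk⟩ * (⟨k, hk⟩ : Pb)⁻¹, ?_, rfl⟩
          rw [SetLike.mem_coe, ← QuotientGroup.eq_one_iff, QuotientGroup.mk_mul, QuotientGroup.mk_inv, h2,
            mul_inv_cancel]
      exact fun s hs k hk => (mem_centralizer_iff.1 (hcent hs) k hk).symm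
    · obtain ⟨S, hSN, hS2, τ, hτ, -, huniq⟩ := hdata NP hNPtop
      exact eq_bot_of_coprime hp2 hPbp hV h255 hexp hS2 ((map_mono hSN).trans hnorm) hτ huniq
  have htriv : ∀ x ∈ CN, ρ x = 1 := by
    obtain ⟨θ, hθ⟩ : ∃ θ, θ = ρ.comp CN.subtype := ⟨_, rfl⟩
    have hone : θ.ker.index = 1 := by
      by_contra hne
      obtain ⟨p, hp, hpd⟩ := Nat.exists_prime_and_dvd hne
      haveI := Fact.mk hp
      rcases eq_or_ne p 2 with rfl | hp2
      · subst hCN
        have hle : (Q₂ : Subgroup φN.ker) ≤ θ.ker := fun x hx => by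
          rw [hQ₂] at hx
          rw [MonoidHom.mem_ker, hθ]
          exact hρW _ hx
        exact Q₂.not_dvd_index (hpd.trans (index_dvd_of_le hle))
      · obtain ⟨P⟩ : Nonempty (Sylow p CN) := inferInstance
        have hle : (P : Subgroup CN) ≤ θ.ker := by
          rw [← Subgroup.map_eq_bot_iff, hθ]
          exact hsmall p hp2 P
        exact P.not_dvd_index (hpd.trans (index_dvd_of_le hle))
    intro x hx
    have h1 : (⟨x, hx⟩ : CN) ∈ θ.ker := by rw [index_eq_one.1 hone]; trivial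
    rw [MonoidHom.mem_ker, hθ] at h1
    exact h1
  intro k hk hkD hodd w hw
  have hρk : ρ ⟨k, hk⟩ = 1 := htriv _ (hCN ▸ MonoidHom.mem_ker.2 ((hkerN _).2 hkD))
  have hmod : k * w * k⁻¹ * w⁻¹ ∈ D := by
    have h1 := DFunLike.congr_fun hρk (QuotientGroup.mk ⟨w, hw⟩)
    have h2 : (QuotientGroup.mk (W.normalizerMonoidHom ⟨k, hk⟩ ⟨w, hw⟩) : W ⧸ D.subgroupOf W) =
        QuotientGroup.mk ⟨w, hw⟩ := h1
    have h3 : W.normalizerMonoidHom ⟨k, hk⟩ ⟨w, hw⟩ * (⟨w, hw⟩ : W)⁻¹ ∈ D.subgroupOf W := by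
      rw [← QuotientGroup.eq_one_iff, QuotientGroup.mk_mul, QuotientGroup.mk_inv, h2, mul_inv_cancel]
    exact h3
  obtain ⟨d, hd⟩ : ∃ d, d = k * w * k⁻¹ * w⁻¹ := ⟨_, rfl⟩
  rw [← hd] at hmod
  have hpow : ∀ n : ℕ, k ^ n * w * (k ^ n)⁻¹ = d ^ n * w := by
    intro n
    induction n with
    | zero => simp
    | succ n ih =>
      rw [pow_succ', show k * k ^ n * w * (k * k ^ n)⁻¹ = k * (k ^ n * w * (k ^ n)⁻¹) * k⁻¹ by group, ih,
        show k * (d ^ n * w) * k⁻¹ = (k * d ^ n) * w * k⁻¹ by group,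
        (show Commute k (d ^ n) from (show Commute k d from hkD d hmod).pow_right n).eq,
        show d ^ n * k * w * k⁻¹ = d ^ n * (k * w * k⁻¹ * w⁻¹) * w by group, ← hd, ← pow_succ]
  have h1 := hpow (orderOf k)
  rw [pow_orderOf_eq_one, one_mul, inv_one, mul_one, right_eq_mul] at h1
  obtain ⟨m, hm⟩ := hodd
  rw [hm, pow_succ, pow_mul, _root_.sq, h.elem d hmod, one_pow, one_mul, hd, mul_inv_eq_one, mul_inv_eq_iff_eq_mul] at h1
  exact h1

end Ctx

end CfsgLib.PGroup.RudvalisType.Fusion
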