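import Cfsg.Agent.Lib.PGroup.RudvalisType.Weak
import Mathlib.GroupTheory.Sylow

/-!
# The centraliser of the third centre inside an ambient group
-/

set_option autoImplicit false

namespace CfsgLib.PGroup.RudvalisType.Fusion

open Subgroup
open scoped commutatorElement

variable {G : Type*} [Group G] [Finite G]

/-- What is used of the configuration: `W` is the centraliser of the third centre of `T` and `D` its derived
group. -/
structure Ctx (T : Sylow 2 G) (W D : Subgroup G) : Prop where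
  hWT : W ≤ (T : Subgroup G)
  hDW : D ≤ W
  cardW : Nat.card W = 2 ^ 11
  cardT : Nat.card (T : Subgroup G) = 2 ^ 14
  cardD : Nat.card D = 8
  normW : (T : Subgroup G) ≤ normalizer (W : Set G)
  normWD : normalizer (W : Set G) ≤ normalizer (D : Set G)
  central : ∀ d ∈ D, ∀ w ∈ W, d * w = w * d
  cent : ∀ t ∈ (T : Subgroup G), (∀ d ∈ D, t * d = d * t) → t ∈ W
  sq : ∀ w ∈ W, w * w ∈ D
  cm : ∀ u ∈ W, ∀ w ∈ W, ⁅u, w⁆ ∈ D
  elem : ∀ d ∈ D, d * d = 1
  small : ∀ U ≤ W, 2 ^ 7 ≤ Nat.card U → D ≤ U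
  weak : ∀ g : G, (∀ w ∈ W, g * w * g⁻¹ ∈ (T : Subgroup G)) → g ∈ normalizer (W : Set G)
  quot : ∃ f : ↥(T : Subgroup G) →* DihedralGroup 4, Function.Surjective f ∧ f.ker = W.subgroupOf (T : Subgroup G)
  fix : ∀ a ∈ W, ∀ b ∈ W, a ∉ D → b ∉ D → (∀ t ∈ (T : Subgroup G), ⁅a, t⁆ ∈ D) →
    (∀ t ∈ (T : Subgroup G), ⁅b, t⁆ ∈ D) → a⁻¹ * b ∈ D
  autT : ∀ n ∈ normalizer ((T : Subgroup G) : Set G), Odd (orderOf n) → ∀ t ∈ (T : Subgroup G), n * t = t * n

theorem ctx_of_hyp (T : Sylow 2 G) (H : Hyp ↥(T : Subgroup G)) (W D : Subgroup G)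
    (hW : W = (RudvalisType.W ↥(T : Subgroup G)).map (T : Subgroup G).subtype)
    (hD : D = ((commutator ↥(RudvalisType.W ↥(T : Subgroup G))).map
      (RudvalisType.W ↥(T : Subgroup G)).subtype).map (T : Subgroup G).subtype) : Ctx T W D := by
  classical
  haveI : Fact (Nat.Prime 2) := ⟨Nat.prime_two⟩
  obtain ⟨W₀, hW₀⟩ : ∃ W₀, W₀ = RudvalisType.W ↥(T : Subgroup G) := ⟨_, rfl⟩
  obtain ⟨Z₃, hZ₃⟩ : ∃ Z₃, Z₃ = RudvalisType.Z ↥(T : Subgroup G) 3 := ⟨_, rfl⟩
  obtain ⟨h14, hi, h11, hF, -⟩ := H.main_bound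
  have hD' : D = Z₃.map (T : Subgroup G).subtype := by rw [hD, H.commutator_eq, hZ₃]
  subst hW hD'
  rw [← hW₀] at h11 hi ⊢
  haveI hW₀n : W₀.Normal := by rw [hW₀]; infer_instance
  haveI hZ₃n : Z₃.Normal := by rw [hZ₃]; infer_instance
  have hle : Z₃ ≤ W₀ := by rw [hZ₃, hW₀]; exact H.Z3_le_W
  have hnorm : ∀ K : Subgroup ↥(T : Subgroup G), K.Normal →
      (T : Subgroup G) ≤ normalizer (K.map (T : Subgroup G).subtype : Set G) := by
    intro K hK t ht
    refine mem_normalizer_iff.2 fun g => ⟨?_, ?_⟩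
    · rintro ⟨k, hk, rfl⟩
      exact ⟨⟨t, ht⟩ * k * ⟨t, ht⟩⁻¹, hK.conj_mem k hk _, rfl⟩
    · rintro ⟨k, hk, hkg⟩
      refine ⟨⟨t, ht⟩⁻¹ * k * ⟨t, ht⟩, by simpa using hK.conj_mem k hk ⟨t, ht⟩⁻¹, ?_⟩
      show t⁻¹ * (k : G) * t = g
      rw [show (k : G) = t * g * t⁻¹ from hkg]
      group
  refine ⟨map_subtype_le _, map_mono hle, ?_, h14, ?_, hnorm _ hW₀n, ?_, ?_, ?_, ?_, ?_, ?_, ?_, ?_, ?_, ?_, ?_⟩
  · rw [card_map_of_injective (subtype_injective _), h11]
  · rw [card_map_of_injective (subtype_injective _), hZ₃, H.card_Z (by norm_num)]; rfl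
  · have hc : (commutator ↥(W₀.map (T : Subgroup G).subtype)).map (W₀.map (T : Subgroup G).subtype).subtype =
        Z₃.map (T : Subgroup G).subtype := by
      have h1 : (commutator ↥W₀).map W₀.subtype = Z₃ := by rw [hW₀, hZ₃, H.commutator_eq]
      rw [← h1, Subgroup.map_subtype_commutator, Subgroup.map_subtype_commutator, Subgroup.map_commutator]
    intro g hg
    rw [← hc]
    refine mem_normalizer_iff.2 fun x => ?_
    have key : ∀ a : G, a ∈ normalizer (W₀.map (T : Subgroup G).subtype : Set G) → ∀ x,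
        x ∈ (commutator ↥(W₀.map (T : Subgroup G).subtype)).map (W₀.map (T : Subgroup G).subtype).subtype →
        a * x * a⁻¹ ∈ (commutator ↥(W₀.map (T : Subgroup G).subtype)).map (W₀.map (T : Subgroup G).subtype).subtype := by
      intro a ha x hx
      rw [Subgroup.map_subtype_commutator] at hx ⊢
      have h2 : (⁅W₀.map (T : Subgroup G).subtype, W₀.map (T : Subgroup G).subtype⁆).map (MulAut.conj a).toMonoidHom ≤
          ⁅W₀.map (T : Subgroup G).subtype, W₀.map (T : Subgroup G).subtype⁆ := by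
        rw [Subgroup.map_commutator]
        refine Subgroup.commutator_mono ?_ ?_ <;> rintro _ ⟨w, hw, rfl⟩ <;>
          exact (mem_normalizer_iff.1 ha w).1 hw
      exact h2 ⟨x, hx, rfl⟩
    refine ⟨key g hg x, fun h => ?_⟩
    have h' := key g⁻¹ (inv_mem hg) _ h
    rwa [inv_inv, show g⁻¹ * (g * x * g⁻¹) * g = x by group] at h'
  · rintro _ ⟨d, hd, rfl⟩ _ ⟨w, hw, rfl⟩
    exact congrArg Subtype.val (H.Z3_comm (hZ₃ ▸ hd) (hW₀ ▸ hw)).eq
  · intro t ht hc
    refine ⟨⟨t, ht⟩, ?_, rfl⟩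
    rw [hW₀]
    refine mem_centralizer_iff.2 fun z hz => Subtype.ext ?_
    exact (hc _ ⟨z, hZ₃ ▸ hz, rfl⟩).symm
  · rintro _ ⟨w, hw, rfl⟩
    refine ⟨w * w, ?_, map_mul _ _ _⟩
    subst hW₀ hZ₃
    exact H.sq_mem ⟨w, hw⟩
  · rintro _ ⟨u, hu, rfl⟩ _ ⟨w, hw, rfl⟩
    refine ⟨⁅u, w⁆, ?_, map_commutatorElement _ u w⟩
    subst hW₀ hZ₃
    have h := H.cm_mem3 ⟨u, hu⟩ ⟨w, hw⟩
    simpa [commutatorElement_def] using h
  · rintro _ ⟨d, hd, rfl⟩
    rw [← map_mul, H.Z3_sq (hZ₃ ▸ hd), map_one]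
  · intro U hU hcard
    subst hW₀ hZ₃
    rintro _ ⟨z, hz, rfl⟩
    let ι : ↥(RudvalisType.W ↥(T : Subgroup G)) →* G :=
      (T : Subgroup G).subtype.comp (RudvalisType.W ↥(T : Subgroup G)).subtype
    have hι : Function.Injective ι := fun a b h => Subtype.ext (Subtype.ext h)
    have hr : ι.range = (RudvalisType.W ↥(T : Subgroup G)).map (T : Subgroup G).subtype := by
      rw [MonoidHom.range_comp, Subgroup.range_subtype]
    have hcardU : Nat.card (U.comap ι) = Nat.card U := by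
      rw [← card_map_of_injective hι, map_comap_eq_self (hr.symm ▸ hU)]
    have hidx : (U.comap ι).index ≤ 16 := by
      have h := Subgroup.index_mul_card (U.comap ι)
      rw [hcardU, h11] at h
      by_contra hgt
      have : 17 * 2 ^ 7 ≤ (U.comap ι).index * Nat.card U := Nat.mul_le_mul (by omega) hcard
      omega
    obtain ⟨u, hu, e⟩ := hF.ge hz
    have h1 := H.hd _ hidx hu
    rw [← e]
    exact h1
  · intro g hg
    subst hW₀
    let ι : ↥(RudvalisType.W ↥(T : Subgroup G)) →* ↥(T : Subgroup G) :=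
      MonoidHom.mk' (fun u => ⟨g * ((u : ↥(T : Subgroup G)) : G) * g⁻¹, hg _ ⟨_, u.2, rfl⟩⟩)
        fun a b => Subtype.ext (by simp [mul_assoc])
    have hι : Function.Injective ι := fun a b h => Subtype.ext (Subtype.ext (by
      have := congrArg Subtype.val h
      simpa [ι] using this))
    obtain ⟨Y, hY⟩ : ∃ Y, Y = (frattini ↥(RudvalisType.W ↥(T : Subgroup G))).map ι := ⟨_, rfl⟩
    have heq : ι.range = RudvalisType.W ↥(T : Subgroup G) := by
      refine H.eq_W ι.range Y ?_ ?_ ?_ ?_ ?_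
      · rw [← Nat.card_congr (MonoidHom.ofInjective hι).toEquiv]
        exact h11
      · rw [hY, Subgroup.card_map_of_injective hι]
        exact H.hc
      · rw [hY]
        rintro _ ⟨z, hz, rfl⟩ _ ⟨u, rfl⟩
        rw [← map_mul, ← map_mul]
        refine congrArg _ (Subtype.ext ?_)
        exact (H.Z3_comm (H.frattini_le z hz) u.2).eq
      · rw [hY]
        rintro _ ⟨u, rfl⟩
        exact ⟨_, H.sq_frattini u, map_mul ι u u⟩
      · rw [hY]
        rintro _ ⟨u, rfl⟩ _ ⟨v, rfl⟩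
        exact ⟨_, H.cm_frattini u v, map_commutatorElement ι u v⟩
    refine mem_normalizer_iff.2 fun x => ⟨?_, ?_⟩
    · rintro ⟨u, hu, rfl⟩
      exact ⟨ι ⟨u, hu⟩, heq.le ⟨_, rfl⟩, rfl⟩
    · rintro ⟨u, hu, e⟩
      obtain ⟨v, rfl⟩ := heq.ge hu
      exact ⟨v, v.2, mul_left_cancel (mul_right_cancel (e : g * _ * g⁻¹ = g * x * g⁻¹))⟩
  · subst hW₀
    obtain ⟨f, hf, hker⟩ := H.quotient_dihedral
    refine ⟨f, hf, ?_⟩
    rw [hker]
    exact (comap_map_eq_self_of_injective (subtype_injective _) _).symm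
  · rintro _ ⟨a, ha, rfl⟩ _ ⟨b, hb, rfl⟩ ha' hb' hat hbt
    subst hW₀ hZ₃
    have hinj := subtype_injective (T : Subgroup G)
    have h4 : ∀ c : ↥(T : Subgroup G), (∀ t ∈ (T : Subgroup G), ⁅(T : Subgroup G).subtype c, t⁆ ∈
        (RudvalisType.Z ↥(T : Subgroup G) 3).map (T : Subgroup G).subtype) → c ∈ RudvalisType.Z ↥(T : Subgroup G) 4 := by
      intro c hc
      refine Subgroup.mem_upperCentralSeries_succ_iff.2 fun t => ?_
      refine (mem_map_iff_mem hinj).1 ?_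
      show (T : Subgroup G).subtype ⁅c, t⁆ ∈ _
      rw [map_commutatorElement]
      exact hc t t.2
    rcases mem_or (Z_mono (by norm_num : 3 ≤ 4)) (by rw [H.card_Z le_rfl, H.card_Z (by norm_num)]; rfl)
      (h4 a hat) (fun h => ha' (mem_map_of_mem _ h)) (h4 b hbt) with h | h
    · exact absurd (mem_map_of_mem _ h) hb'
    · exact ⟨a⁻¹ * b, h, by rw [map_mul, map_inv]⟩
  · intro n hn hodd t ht
    let α : MulAut ↥(T : Subgroup G) := (T : Subgroup G).normalizerMonoidHom ⟨n, hn⟩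
    have hα : α ^ orderOf n = 1 := by
      rw [← map_pow]
      refine (congrArg _ (Subtype.ext ?_)).trans (map_one _)
      exact pow_orderOf_eq_one n
    have h := H.aut_trivial α hodd hα
    have h2 : α ⟨t, ht⟩ = ⟨t, ht⟩ := by rw [h]; rfl
    exact mul_inv_eq_iff_eq_mul.1 (congrArg Subtype.val h2 : n * t * n⁻¹ = t)

namespace Ctx

variable {T : Sylow 2 G} {W D : Subgroup G} (h : Ctx T W D)
include h

theorem normD : (T : Subgroup G) ≤ normalizer (D : Set G) := h.normW.trans h.normWD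

theorem conj_W {t w : G} (ht : t ∈ (T : Subgroup G)) (hw : w ∈ W) : t * w * t⁻¹ ∈ W :=
  (mem_normalizer_iff.1 (h.normW ht) w).1 hw

/-- The squares in a large subgroup of `W` generate `D`. -/
theorem gen {U : Subgroup G} (hU : U ≤ W) (hcard : 2 ^ 8 ≤ Nat.card U) {Y : Subgroup G}
    (hY : ∀ u ∈ U, u * u ∈ Y) : D ≤ Y := by
  intro d hd
  have hdU : d ∈ U := h.small U hU (le_trans (by norm_num) hcard) hd
  by_contra hdY
  have hsq : ∀ u : U, u * u ∈ (Y ⊓ U).subgroupOf U := fun u => ⟨hY u u.2, mul_mem u.2 u.2⟩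
  have hcm : ∀ u v : U, ⁅u, v⁆ ∈ (Y ⊓ U).subgroupOf U := fun u v => by
    rw [show ⁅u, v⁆ = u * u * ((u⁻¹ * v) * (u⁻¹ * v)) * (v⁻¹ * v⁻¹) by simp [commutatorElement_def, mul_assoc]]
    exact mul_mem (mul_mem (hsq u) (hsq _)) (hsq _)
  obtain ⟨ψ, -, hψ⟩ := exists_hom hsq hcm (s := (⟨d, hdU⟩ : U)) fun hmem => hdY hmem.1
  have hk : ψ.ker.index ≤ 2 := by
    rw [index_ker]
    exact (Subgroup.card_le_card_group _).trans (by simp)
  have h1 := Subgroup.index_mul_card ψ.ker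
  have h2 : ψ.ker.index * Nat.card ψ.ker ≤ 2 * Nat.card ψ.ker := Nat.mul_le_mul_right _ hk
  have h3 : D ≤ ψ.ker.map U.subtype := by
    refine h.small _ ((map_subtype_le _).trans hU) ?_
    rw [card_map_of_injective (subtype_injective _)]
    omega
  obtain ⟨e, he, hed⟩ := h3 hd
  exact hψ ((show (⟨d, hdU⟩ : U) = e from Subtype.ext hed.symm) ▸ MonoidHom.mem_ker.1 he)

end Ctx

end CfsgLib.PGroup.RudvalisType.Fusion
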