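import Cfsg.Agent.Lib.PGroup.RudvalisType.Fusion.Setup
import Cfsg.Agent.Lib.PGroup.RudvalisType.Fusion.Cocycle

/-!
# The normaliser of the derived group of `W` controls the transfer
-/

set_option autoImplicit false

namespace CfsgLib.PGroup.RudvalisType.Fusion

open Subgroup
open scoped commutatorElement

variable {G : Type*} [Group G] [Finite G] {T : Sylow 2 G} {W D : Subgroup G}

theorem c2_cases : ∀ a : C2, a = 1 ∨ a = Multiplicative.ofAdd 1 := by decide

/-- A maximal subgroup containing a stabiliser. -/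
theorem exists_half {U : Subgroup G} (hU : IsPGroup 2 U) {q : G ⧸ (T : Subgroup G)} {u₀ : G} (hu₀ : u₀ ∈ U)
    (hmove : u₀ • q ≠ q) : ∃ U₁ ≤ U, (∀ s ∈ U, s ∉ U₁ → ∀ u ∈ U, u ∉ U₁ → s⁻¹ * u ∈ U₁) ∧
      (∀ u ∈ U, u • q = q → u ∈ U₁) ∧ 2 * Nat.card U₁ = Nat.card U ∧ ∃ s ∈ U, s ∉ U₁ := by
  classical
  haveI : Fact (Nat.Prime 2) := ⟨Nat.prime_two⟩
  obtain ⟨K, hK⟩ : ∃ K, K = (MulAction.stabilizer G q).subgroupOf U ⊔ frattini U := ⟨_, rfl⟩
  have hne : K ≠ ⊤ := fun h => hmove (by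
    have h1 := frattini_nongenerating (hK ▸ h)
    exact ((eq_top_iff' _).1 h1 ⟨u₀, hu₀⟩ : u₀ ∈ MulAction.stabilizer G q))
  obtain ⟨s, hs⟩ : ∃ s, s ∉ K := by
    by_contra hc
    push Not at hc
    exact hne ((eq_top_iff' _).2 hc)
  have hsq : ∀ x : U, x * x ∈ K := fun x => by
    rw [hK, ← sq]; exact mem_sup_right (CfsgLib.Coprime.pow_mem_frattini hU x)
  have hcm : ∀ x y : U, ⁅x, y⁆ ∈ K := fun x y => by
    rw [hK]
    exact mem_sup_right (CfsgLib.Coprime.commutator_le_frattini hU (commutator_mem_commutator (mem_top x) (mem_top y)))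
  obtain ⟨ψ, hψK, hψs⟩ := exists_hom hsq hcm hs
  have hmem : ∀ u (hu : u ∈ U), u ∈ ψ.ker.map U.subtype ↔ ψ ⟨u, hu⟩ = 1 := fun u hu =>
    (mem_map_iff_mem (subtype_injective U) (x := (⟨u, hu⟩ : U))).trans MonoidHom.mem_ker
  refine ⟨ψ.ker.map U.subtype, map_subtype_le _, ?_, ?_, ?_, s, s.2, ?_⟩
  · intro a ha ha' u hu hu'
    rw [hmem _ ha] at ha'
    rw [hmem _ hu] at hu'
    rw [hmem _ (mul_mem (inv_mem ha) hu), show (⟨a⁻¹ * u, mul_mem (inv_mem ha) hu⟩ : U) = ⟨a, ha⟩⁻¹ * ⟨u, hu⟩ from rfl,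
      map_mul, map_inv, (c2_cases _).resolve_left ha', (c2_cases _).resolve_left hu', inv_mul_cancel]
  · intro u hu hfix
    rw [hmem _ hu]
    exact MonoidHom.mem_ker.1 (hψK (hK ▸ mem_sup_left (show (⟨u, hu⟩ : U) ∈ (MulAction.stabilizer G q).subgroupOf U
      from hfix)))
  · have h1 := Subgroup.index_mul_card ψ.ker
    have h2 : ψ.ker.index = 2 := by
      rw [index_ker, MonoidHom.range_eq_top.2 fun a => ?_, card_top]
      · simp
      · rcases c2_cases a with rfl | rfl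
        · exact ⟨1, map_one ψ⟩
        · exact ⟨s, (c2_cases _).resolve_left hψs⟩
    rw [h2] at h1
    rw [card_map_of_injective (subtype_injective _)]
    exact h1
  · rw [hmem _ s.2]
    exact hψs

namespace Ctx

variable (h : Ctx T W D) (μ : ↥(T : Subgroup G) →* C2)
include h

/-- A large subgroup of `W` moving a coset has trivial product on its orbit. -/
theorem vanish {U : Subgroup G} (hU : U ≤ W) (hcard : 2 ^ 9 ≤ Nat.card U) {q : G ⧸ (T : Subgroup G)}
    (hmove : ∃ u ∈ U, u • q ≠ q) {x : G} (hx : x ∈ U) : F μ (orb U q) x = 1 := by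
  classical
  obtain ⟨u₀, hu₀, hu₀'⟩ := hmove
  obtain ⟨U₁, hle, htwo, hstab, hc, s, hs, hs'⟩ := exists_half (T.2.to_le (hU.trans h.hWT)) hu₀ hu₀'
  have hkill : ∀ y ∈ D, y ∈ U₁ → F μ (orb U₁ q) y = 1 := by
    intro y hy hy₁
    have h8 : 2 ^ 8 ≤ Nat.card U₁ := by omega
    obtain ⟨K, hK⟩ : ∃ K : Subgroup U₁, K = (MonoidHom.mk' (fun a : U₁ => F μ (orb U₁ q) a)
        fun a b => F_mul' μ b.2 q (a : G)).ker := ⟨_, rfl⟩
    obtain ⟨a, ha, e⟩ := h.gen (hle.trans hU) h8 (Y := K.map U₁.subtype) (fun u hu => ⟨⟨u, hu⟩ * ⟨u, hu⟩, by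
      rw [hK]
      show _ * _ ∈ MonoidHom.ker _
      rw [MonoidHom.mem_ker, map_mul]
      exact (by decide : ∀ a : C2, a * a = 1) _, rfl⟩) hy
    subst hK
    rw [← e]
    exact MonoidHom.mem_ker.1 ha
  obtain ⟨h1, h2⟩ := step μ hle htwo hstab hs hs' hx
  by_cases hx₁ : x ∈ U₁
  · obtain ⟨hy, e⟩ := h2 hx₁
    rw [e]
    refine hkill _ ?_ (mul_mem hx₁ hy)
    rw [show x * (s⁻¹ * x * s) = x * x * ⁅x⁻¹, s⁻¹⁆ by simp [commutatorElement_def, mul_assoc]]
    exact mul_mem (h.sq x (hU hx)) (h.cm _ (inv_mem (hU hx)) _ (inv_mem (hU hs)))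
  · obtain ⟨hy, e⟩ := h1 hx₁
    rw [e]
    exact hkill _ (h.sq x (hU hx)) hy

/-- If half of `W` fixes the coset of `g` then `g` normalises `D`. -/
theorem mem_of_half {g : G} {W₀ : Subgroup G} (hW₀ : W₀ ≤ W) (hcard : 2 ^ 10 ≤ Nat.card W₀)
    (hfix : ∀ w ∈ W₀, g⁻¹ * w * g ∈ (T : Subgroup G)) : g ∈ normalizer (D : Set G) := by
  classical
  obtain ⟨A, hA⟩ : ∃ A, A = W₀.map (MulAut.conj g⁻¹).toMonoidHom := ⟨_, rfl⟩
  have hmemA : ∀ a, a ∈ A ↔ g * a * g⁻¹ ∈ W₀ := fun a => by
    rw [hA]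
    constructor
    · rintro ⟨w, hw, rfl⟩
      simpa [mul_assoc] using hw
    · exact fun ha => ⟨_, ha, by simp [mul_assoc]⟩
  have hAT : A ≤ (T : Subgroup G) := fun a ha => by simpa [mul_assoc] using hfix _ ((hmemA a).1 ha)
  have hcA : Nat.card A = Nat.card W₀ := by rw [hA, card_map_of_injective (MulAut.conj g⁻¹).injective]
  obtain ⟨f, hf, hker⟩ := h.quot
  obtain ⟨φ, hφ⟩ : ∃ φ : A →* DihedralGroup 4, φ = f.comp (inclusion hAT) := ⟨_, rfl⟩
  have hkerA : ∀ a : A, φ a = 1 ↔ (a : G) ∈ W := fun a => by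
    rw [hφ, MonoidHom.comp_apply, ← MonoidHom.mem_ker, hker]
    rfl
  obtain ⟨U, hU⟩ : ∃ U, U = A ⊓ W := ⟨_, rfl⟩
  have hUcard : Nat.card U = Nat.card φ.ker := by
    rw [hU, ← card_map_of_injective (subtype_injective A) (K := φ.ker)]
    congr 2
    ext a
    constructor
    · rintro ⟨ha, hw⟩
      exact ⟨⟨a, ha⟩, (hkerA _).2 hw, rfl⟩
    · rintro ⟨b, hb, rfl⟩
      exact ⟨b.2, (hkerA b).1 hb⟩
  have hidx := Subgroup.index_mul_card φ.ker
  rw [index_ker, hcA] at hidx
  have h8 : Nat.card φ.range ≤ 8 := by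
    refine (Subgroup.card_le_card_group _).trans ?_
    rw [DihedralGroup.nat_card]
  have hU7 : 2 ^ 7 ≤ Nat.card U := by
    rw [hUcard]
    by_contra hlt
    have := Nat.mul_le_mul h8 (Nat.le_pred_of_lt (not_le.1 hlt))
    simp only [Nat.pred_eq_sub_one] at this
    omega
  -- the conjugate of `D` lies in `W`
  obtain ⟨D', hD'⟩ : ∃ D', D' = D.map (MulAut.conj g⁻¹).toMonoidHom := ⟨_, rfl⟩
  have hD'U : D' ≤ U := by
    have h1 : D ≤ U.map (MulAut.conj g).toMonoidHom := by
      refine h.small _ ?_ (by rwa [card_map_of_injective (MulAut.conj g).injective])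
      rintro _ ⟨u, hu, rfl⟩
      rw [hU] at hu
      exact hW₀ ((hmemA u).1 hu.1)
    intro d hd
    rw [hD'] at hd
    obtain ⟨e, he, rfl⟩ := hd
    obtain ⟨u, hu, rfl⟩ := h1 he
    simpa [mul_assoc] using hu
  have hsqA : ∀ a ∈ A, a * a ∈ D' := fun a ha => by
    rw [hD']
    exact ⟨_, h.sq _ (hW₀ ((hmemA a).1 ha)), by simp [mul_assoc]⟩
  have h4 : Nat.card φ.range ≤ 4 := by
    have hne : φ.range ≠ ⊤ := fun e => by
      obtain ⟨a, ha⟩ := MonoidHom.range_eq_top.1 e (DihedralGroup.r 1)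
      have h1 : φ (a * a) = 1 := (hkerA _).2 (by
        have := hD'U (hsqA a a.2)
        rw [hU] at this
        exact this.2)
      rw [map_mul, ha] at h1
      exact absurd h1 (by decide)
    have h2 : φ.range.index ≠ 1 := fun e => hne (index_eq_one.1 e)
    have h3 := Subgroup.index_mul_card φ.range
    have h5 : φ.range.index ≠ 0 := index_ne_zero_of_finite
    rw [DihedralGroup.nat_card] at h3
    nlinarith [show 2 ≤ φ.range.index by omega]
  have hU8 : 2 ^ 8 ≤ Nat.card U := by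
    rw [hUcard]
    by_contra hlt
    have := Nat.mul_le_mul h4 (Nat.le_pred_of_lt (not_le.1 hlt))
    simp only [Nat.pred_eq_sub_one] at this
    omega
  have hle : D ≤ D' := h.gen (hU ▸ inf_le_right) hU8 fun u hu => hsqA u (hU ▸ hu : u ∈ A ⊓ W).1
  have heq : D = D' := eq_of_le_of_card_ge hle (by rw [hD', card_map_of_injective (MulAut.conj g⁻¹).injective])
  refine inv_mem_iff.1 (mem_normalizer_iff_conj_image_eq.2 ?_)
  conv_rhs => rw [heq, hD']
  rfl

/-- The orbit product of an element with square in `W` outside the normaliser of `D`. -/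
theorem orbit_eq_one {q : G ⧸ (T : Subgroup G)} (hq : q.out ∉ normalizer (D : Set G)) {x : G}
    (hx : x ∈ (T : Subgroup G)) (hxx : x * x ∈ W) : F μ (orb (W ⊔ zpowers x) q) x = 1 := by
  classical
  have hfixT : ∀ u : G, u • q = q → q.out⁻¹ * u * q.out ∈ (T : Subgroup G) := fun u hu => by
    rw [mul_assoc, ← QuotientGroup.eq, QuotientGroup.out_eq']
    conv_lhs => rw [← hu, ← q.out_eq', MulAction.Quotient.smul_mk, smul_eq_mul]
  have hWmove : ∃ w ∈ W, w • q ≠ q := by
    by_contra hc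
    push Not at hc
    refine hq (h.normWD (inv_mem_iff.1 (h.weak q.out⁻¹ fun w hw => ?_)))
    rw [inv_inv]
    exact hfixT w (hc w hw)
  obtain ⟨H, hH⟩ : ∃ H, H = W ⊔ zpowers x := ⟨_, rfl⟩
  rw [← hH]
  by_cases hxW : x ∈ W
  · rw [show H = W from hH.trans (sup_eq_left.2 (zpowers_le.2 hxW))]
    exact h.vanish μ le_rfl (by rw [h.cardW]; norm_num) hWmove hxW
  have hxH : x ∈ H := hH ▸ mem_sup_right (mem_zpowers x)
  have hWH : W ≤ H := hH ▸ le_sup_left
  have hcases : ∀ u ∈ H, u ∈ W ∨ x⁻¹ * u ∈ W := by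
    obtain ⟨L, hL⟩ : ∃ L : Subgroup G, (L : Set G) = {u | u ∈ W ∨ x⁻¹ * u ∈ W} := by
      refine ⟨{ carrier := {u | u ∈ W ∨ x⁻¹ * u ∈ W}, one_mem' := Or.inl W.one_mem, mul_mem' := ?_, inv_mem' := ?_ }, rfl⟩
      · intro a b ha hb
        have hcj : ∀ w ∈ W, x⁻¹ * w * x ∈ W := fun w hw => by simpa using h.conj_W (inv_mem hx) hw
        rcases ha with ha | ha <;> rcases hb with hb | hb
        · exact Or.inl (mul_mem ha hb)
        · refine Or.inr ?_
          rw [show x⁻¹ * (a * b) = x⁻¹ * a * x * (x⁻¹ * b) by group]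
          exact mul_mem (hcj a ha) hb
        · exact Or.inr (by rw [← mul_assoc]; exact mul_mem ha hb)
        · refine Or.inl ?_
          rw [show a * b = x * x * (x⁻¹ * (x⁻¹ * a) * x) * (x⁻¹ * b) by group]
          exact mul_mem (mul_mem hxx (hcj _ ha)) hb
      · intro a ha
        rcases ha with ha | ha
        · exact Or.inl (inv_mem ha)
        · refine Or.inr ?_
          rw [show x⁻¹ * a⁻¹ = x⁻¹ * (x⁻¹ * a)⁻¹ * x * (x * x)⁻¹ by group]
          exact mul_mem (by simpa using h.conj_W (inv_mem hx) (inv_mem ha)) (inv_mem hxx)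
    intro u hu
    have hle : H ≤ L := by
      rw [hH]
      refine sup_le (fun w hw => ?_) (zpowers_le.2 ?_)
      · show w ∈ (L : Set G); rw [hL]; exact Or.inl hw
      · show x ∈ (L : Set G); rw [hL]; exact Or.inr (by rw [inv_mul_cancel]; exact W.one_mem)
    have h1 : u ∈ (L : Set G) := hle hu
    rwa [hL] at h1
  have hHT : H ≤ (T : Subgroup G) := hH ▸ sup_le h.hWT (zpowers_le.2 hx)
  by_cases hfx : ∃ k ∈ H, k ∉ W ∧ k • q = q
  · obtain ⟨k, hk, hkW, hkq⟩ := hfx
    obtain ⟨w₀, hw₀, hw₀'⟩ := hWmove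
    obtain ⟨U₁, hle, htwo, hstab, hc, s₀, hs₀, hs₀'⟩ := exists_half (T.2.to_le hHT) (hWH hw₀) hw₀'
    have hkU : k ∈ U₁ := hstab k hk hkq
    have hquot : ∀ u ∈ H, u ∉ W → u * k⁻¹ ∈ W := fun u hu huW => by
      have h1 := (hcases u hu).resolve_left huW
      have h2 := (hcases k hk).resolve_left hkW
      rw [show u * k⁻¹ = x * (x⁻¹ * u * (x⁻¹ * k)⁻¹) * x⁻¹ by group]
      exact h.conj_W hx (mul_mem h1 (inv_mem h2))
    obtain ⟨s, hsW, hs'⟩ : ∃ s ∈ W, s ∉ U₁ := by
      by_contra hc'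
      push Not at hc'
      refine hs₀' ?_
      by_cases h0 : s₀ ∈ W
      · exact hc' s₀ h0
      · simpa using mul_mem (hc' _ (hquot s₀ hs₀ h0)) hkU
    obtain ⟨h1, h2⟩ := step μ hle htwo hstab (hWH hsW) hs' hxH
    obtain ⟨y, hyU, hyW, e⟩ : ∃ y ∈ U₁, y ∈ W ∧ F μ (orb H q) x = F μ (orb U₁ q) y := by
      by_cases hx₁ : x ∈ U₁
      · obtain ⟨hy, e⟩ := h2 hx₁
        refine ⟨_, mul_mem hx₁ hy, ?_, e⟩
        rw [show x * (s⁻¹ * x * s) = (x * s⁻¹ * x⁻¹) * (x * x) * s by group]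
        exact mul_mem (mul_mem (h.conj_W hx (inv_mem hsW)) hxx) hsW
      · exact ⟨_, (h1 hx₁).1, hxx, (h1 hx₁).2⟩
    have horb : orb U₁ q = orb (W ⊓ U₁) q := by
      ext p
      simp only [mem_orb]
      refine ⟨?_, fun ⟨u, hu, e⟩ => ⟨u, hu.2, e⟩⟩
      rintro ⟨u, hu, rfl⟩
      by_cases huW : u ∈ W
      · exact ⟨u, ⟨huW, hu⟩, rfl⟩
      · refine ⟨u * k⁻¹, ⟨hquot u (hle hu) huW, U₁.mul_mem hu (U₁.inv_mem hkU)⟩, ?_⟩
        rw [mul_smul]
        congr 1
        exact inv_smul_eq_iff.2 hkq.symm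
    have hcard : 2 ^ 10 ≤ Nat.card (W ⊓ U₁ : Subgroup G) := by
      obtain ⟨ψ, hψ⟩ : ∃ ψ : U₁ → ↥(W ⊓ U₁ : Subgroup G) × Bool, Function.Injective ψ := by
        refine ⟨fun u => if hu : (u : G) ∈ W then (⟨u, hu, u.2⟩, false)
          else (⟨(u : G) * k⁻¹, hquot _ (hle u.2) hu, U₁.mul_mem u.2 (U₁.inv_mem hkU)⟩, true), fun a b hab => ?_⟩
        by_cases ha : (a : G) ∈ W <;> by_cases hb : (b : G) ∈ W <;>
          simp only [dif_pos, dif_neg, ha, hb, not_false_eq_true, Prod.mk.injEq, Bool.false_eq_true,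
            Bool.true_eq_false, and_false, and_true] at hab <;>
          first | exact Subtype.ext (congrArg Subtype.val hab :) | exact Subtype.ext (mul_right_cancel (congrArg Subtype.val hab :))
      have h3 := Nat.card_le_card_of_injective ψ hψ
      rw [Nat.card_prod, Nat.card_eq_fintype_card (α := Bool), Fintype.card_bool] at h3
      have h4 : 2 * 2 ^ 11 ≤ Nat.card H := by
        have h5 : W.relIndex H ≠ 1 := fun e => hxW (relIndex_eq_one.1 e hxH)
        have h6 := Subgroup.index_mul_card (W.subgroupOf H)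
        rw [Nat.card_congr (subgroupOfEquivOfLe hWH).toEquiv, h.cardW] at h6
        have h7 : (W.subgroupOf H).index ≠ 0 := index_ne_zero_of_finite
        have h8 : 2 ≤ (W.subgroupOf H).index := by
          have : (W.subgroupOf H).index ≠ 1 := h5
          omega
        nlinarith
      omega
    rw [e, horb]
    refine h.vanish μ inf_le_left (le_trans (by norm_num) hcard) ?_ ⟨hyW, hyU⟩
    by_contra hc'
    push Not at hc'
    exact hq (h.mem_of_half inf_le_left hcard fun w hw => hfixT w (hc' w hw))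
  · push Not at hfx
    have hstab : ∀ u ∈ H, u • q = q → u ∈ W := fun u hu huq => by
      by_contra huW
      exact hfx u hu huW huq
    have htwo : ∀ a ∈ H, a ∉ W → ∀ b ∈ H, b ∉ W → a⁻¹ * b ∈ W := fun a ha ha' b hb hb' => by
      have h1 := (hcases a ha).resolve_left ha'
      have h2 := (hcases b hb).resolve_left hb'
      rw [show a⁻¹ * b = (x⁻¹ * a)⁻¹ * (x⁻¹ * b) by group]
      exact mul_mem (inv_mem h1) h2
    obtain ⟨-, e⟩ := (step μ hWH htwo hstab hxH hxW hxH).1 hxW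
    exact e.trans (h.vanish μ le_rfl (by rw [h.cardW]; norm_num) hWmove hxx)

/-- Without subgroups of index two, a homomorphism of the normaliser of `D` into a group of order two killing `W`
is trivial. -/
theorem hom_trivial (h2 : ∀ H : Subgroup G, H.index ≠ 2) (ν : ↥(normalizer (D : Set G)) →* C2)
    (hW : ∀ w (hw : w ∈ normalizer (D : Set G)), w ∈ W → ν ⟨w, hw⟩ = 1) : ν = 1 := by
  classical
  haveI : Fact (Nat.Prime 2) := ⟨Nat.prime_two⟩
  obtain ⟨μ, hμ⟩ : ∃ μ : ↥(T : Subgroup G) →* C2, μ = ν.comp (inclusion h.normD) := ⟨_, rfl⟩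
  haveI : Fintype (G ⧸ (T : Subgroup G)) := Fintype.ofFinite _
  let V : G →* C2 := MonoidHom.mk' (fun g => F μ Finset.univ g) fun a b => F_mul μ a fun q => by simp
  have hV : ∀ g, V g = 1 := by
    intro g
    by_contra hg
    refine h2 V.ker ?_
    rw [index_ker, MonoidHom.range_eq_top.2 fun a => ?_, card_top]
    · simp
    · rcases c2_cases a with rfl | rfl
      · exact ⟨1, map_one V⟩
      · exact ⟨g, (c2_cases _).resolve_left hg⟩
  have hout : ∀ m : G, m ∈ normalizer (D : Set G) → (QuotientGroup.mk (s := (T : Subgroup G)) m).out ∈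
      normalizer (D : Set G) := by
    intro m hm
    obtain ⟨t, ht⟩ := QuotientGroup.mk_out_eq_mul (T : Subgroup G) m
    rw [ht]
    exact mul_mem hm (h.normD t.2)
  obtain ⟨S, hS⟩ : ∃ S : Finset (G ⧸ (T : Subgroup G)), S = Finset.univ.filter fun q => q.out ∈ normalizer (D : Set G) :=
    ⟨_, rfl⟩
  have hsm : ∀ m : G, m ∈ normalizer (D : Set G) → ∀ q : G ⧸ (T : Subgroup G), q ∈ S ↔ m • q ∈ S := by
    intro m hm q
    rw [hS, Finset.mem_filter, Finset.mem_filter]
    simp only [Finset.mem_univ, true_and]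
    constructor
    · intro hq
      conv => arg 2; rw [← q.out_eq', MulAction.Quotient.smul_mk]
      exact hout _ (mul_mem hm hq)
    · intro hq
      have h1 := hout _ (mul_mem (inv_mem hm) hq)
      rwa [show (QuotientGroup.mk (m⁻¹ * (m • q).out) : G ⧸ (T : Subgroup G)) = q by
        rw [← smul_eq_mul, ← MulAction.Quotient.smul_mk, QuotientGroup.out_eq', inv_smul_smul]] at h1
  have hodd : Odd S.card := by
    obtain ⟨M, hM⟩ : ∃ M, M = normalizer (D : Set G) := ⟨_, rfl⟩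
    have hTM : (T : Subgroup G) ≤ M := hM ▸ h.normD
    let φ : ↥M ⧸ (T : Subgroup G).subgroupOf M → G ⧸ (T : Subgroup G) :=
      Quotient.map' (fun a : M => (a : G)) fun a b hab => by
        rw [QuotientGroup.leftRel_apply] at hab ⊢
        exact hab
    have hinj : Function.Injective φ := by
      intro a b
      induction a using QuotientGroup.induction_on with
      | _ a =>
        induction b using QuotientGroup.induction_on with
        | _ b =>
          intro hab
          refine QuotientGroup.eq.2 ?_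
          have hab' : (QuotientGroup.mk (a : G) : G ⧸ (T : Subgroup G)) = QuotientGroup.mk (b : G) := hab
          exact mem_subgroupOf.2 (QuotientGroup.eq.1 hab')
    haveI : Fintype (↥M ⧸ (T : Subgroup G).subgroupOf M) := Fintype.ofFinite _
    have himg : S = Finset.univ.image φ := by
      ext q
      rw [hS, Finset.mem_filter, Finset.mem_image]
      simp only [Finset.mem_univ, true_and]
      constructor
      · intro hq
        exact ⟨QuotientGroup.mk ⟨q.out, hM ▸ hq⟩, q.out_eq'⟩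
      · rintro ⟨a, rfl⟩
        induction a using QuotientGroup.induction_on with
        | _ a => exact hout a (hM ▸ a.2)
    rw [himg, Finset.card_image_of_injective _ hinj, Finset.card_univ, ← Nat.card_eq_fintype_card]
    exact Nat.odd_iff.2 (Nat.two_dvd_ne_zero.1 (T.subtype hTM).not_dvd_index)
  have hT : ∀ t (ht : t ∈ (T : Subgroup G)), t * t ∈ W → μ ⟨t, ht⟩ = 1 := by
    intro t ht htt
    have hVt : ∏ q, cf μ t q = 1 := hV t
    have hrest : F μ Sᶜ t = 1 := by
      refine F_eq_one μ (U := W ⊔ zpowers t) Sᶜ ?_ ?_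
      · intro u hu q hq
        rw [Finset.mem_compl] at hq ⊢
        exact fun hc => hq ((hsm u (h.normD ((sup_le h.hWT (zpowers_le.2 ht)) hu)) q).2 hc)
      · intro q hq
        refine h.orbit_eq_one μ (fun hc => ?_) ht htt
        rw [Finset.mem_compl, hS, Finset.mem_filter] at hq
        exact hq ⟨Finset.mem_univ _, hc⟩
    rw [← Finset.prod_mul_prod_compl S, show ∏ q ∈ Sᶜ, cf μ t q = 1 from hrest, mul_one] at hVt
    have htM := h.normD ht
    let r : G ⧸ (T : Subgroup G) → C2 := fun q =>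
      if hq : q.out ∈ normalizer (D : Set G) then ν ⟨q.out, hq⟩ else 1
    have hcf : ∀ q ∈ S, cf μ t q = (r (t • q))⁻¹ * (ν ⟨t, htM⟩ * r q) := by
      intro q hq
      have h1 : q.out ∈ normalizer (D : Set G) := by
        rw [hS, Finset.mem_filter] at hq; exact hq.2
      have h2' : (t • q).out ∈ normalizer (D : Set G) := by
        have := (hsm t htM q).1 hq
        rw [hS, Finset.mem_filter] at this; exact this.2
      simp only [r, dif_pos h1, dif_pos h2']
      rw [← map_inv, ← map_mul, ← map_mul, cf, hμ, MonoidHom.comp_apply]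
      congr 1
    have hshift : ∏ q ∈ S, r (t • q) = ∏ q ∈ S, r q :=
      prod_shift (T := (T : Subgroup G)) (fun q => (hsm t htM q).symm) r
    rw [Finset.prod_congr rfl hcf, Finset.prod_mul_distrib, Finset.prod_mul_distrib, Finset.prod_const,
      Finset.prod_inv_distrib, hshift, mul_left_comm, inv_mul_cancel, mul_one] at hVt
    obtain ⟨k, hk⟩ := hodd
    rw [hk, pow_succ, pow_mul, show ν ⟨t, htM⟩ ^ 2 = 1 from (by decide : ∀ a : C2, a ^ 2 = 1) _, one_pow,
      one_mul] at hVt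
    rw [hμ, MonoidHom.comp_apply]
    exact hVt
  have hTall : ∀ t (ht : t ∈ (T : Subgroup G)), μ ⟨t, ht⟩ = 1 := by
    obtain ⟨f, hf, hker⟩ := h.quot
    obtain ⟨μ', hμ'⟩ : ∃ μ' : DihedralGroup 4 →* C2, μ'.comp f = μ := by
      have hle : f.ker ≤ μ.ker := fun a ha => by
        rw [hker] at ha
        rw [MonoidHom.mem_ker, hμ, MonoidHom.comp_apply]
        exact hW _ _ ha
      exact ⟨f.liftOfSurjective hf ⟨μ, hle⟩, f.liftOfRightInverse_comp _ _ _⟩
    have hinv : ∀ d : DihedralGroup 4, d * d = 1 → μ' d = 1 := by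
      intro d hd
      obtain ⟨a, rfl⟩ := hf d
      rw [← MonoidHom.comp_apply, hμ']
      refine hT a a.2 ?_
      have : a * a ∈ W.subgroupOf (T : Subgroup G) := by
        rw [← hker, MonoidHom.mem_ker, map_mul, hd]
      exact this
    intro t ht
    rw [← hμ', MonoidHom.comp_apply]
    rcases f ⟨t, ht⟩ with i | i
    · rw [show DihedralGroup.r i = DihedralGroup.sr 0 * DihedralGroup.sr i by simp, map_mul,
        hinv _ (DihedralGroup.sr_mul_self 0), hinv _ (DihedralGroup.sr_mul_self i), mul_one]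
    · exact hinv _ (DihedralGroup.sr_mul_self i)
  refine MonoidHom.ext fun m => ?_
  have hle : ((T.subtype h.normD : Sylow 2 _) : Subgroup ↥(normalizer (D : Set G))) ≤ ν.ker := fun a ha => by
    have := hTall a ha
    rw [hμ, MonoidHom.comp_apply] at this
    exact MonoidHom.mem_ker.2 this
  by_contra hm
  have hidx : ν.ker.index = 2 := by
    rw [index_ker, MonoidHom.range_eq_top.2 fun a => ?_, card_top]
    · simp
    · rcases c2_cases a with rfl | rfl
      · exact ⟨1, map_one ν⟩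
      · exact ⟨m, (c2_cases _).resolve_left hm⟩
  exact (T.subtype h.normD).not_dvd_index ((dvd_of_eq hidx.symm).trans (index_dvd_of_le hle))

end Ctx

end CfsgLib.PGroup.RudvalisType.Fusion
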